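import Mathlib.RingTheory.AdjoinRoot
import Mathlib.RingTheory.IntegralClosure.IntegrallyClosed
import Mathlib.RingTheory.Polynomial.ScaleRoots
import Mathlib.RingTheory.RootsOfUnity.AlgebraicallyClosed
import Mathlib.FieldTheory.IsAlgClosed.AlgebraicClosure
import Mathlib.RingTheory.LocalProperties.Basic
import Mathlib.Tactic.LinearCombination

/-!
The normalisation of `B[t]/(t^N - f)`: explicit description of its elements.
-/

universe u

namespace Groth.Agent.CycCov7

open Polynomial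

variable {B C : Type u} [CommRing B] [CommRing C] [Algebra B C]

/-- `t` is an `N`-th root of `f` and `C` is the normalisation of `B[t]/(t^N - f)`. -/
structure IsDatum (N : ℕ) (f : B) (t : C) : Prop where
  pow_eq : t ^ N = algebraMap B C f
  inj : ∀ b : Fin N → B, ∑ i, b i • t ^ (i : ℕ) = 0 → b = 0
  torsion : ∀ c : B, c ≠ 0 → ∀ x : C, c • x = 0 → x = 0
  gen : ∀ x : C, ∃ c : B, c ≠ 0 ∧ ∃ b : Fin N → B, c • x = ∑ i, b i • t ^ (i : ℕ)
  normal : ∀ (m : Ideal C) [m.IsMaximal],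
    IsDomain (Localization.AtPrime m) ∧ IsIntegrallyClosed (Localization.AtPrime m)
  integral : ∀ x : C, IsIntegral B x

/-- In a ring with normal local rings, divisibility of powers gives divisibility. -/
theorem dvd_of_pow_dvd {R : Type u} [CommRing R]
    (hn : ∀ (m : Ideal R) [m.IsMaximal],
      IsDomain (Localization.AtPrime m) ∧ IsIntegrallyClosed (Localization.AtPrime m))
    {n : ℕ} (hn0 : 0 < n) {a b : R} (h : a ^ n ∣ b ^ n) : a ∣ b := by
  rw [← Ideal.mem_span_singleton]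
  refine Ideal.mem_of_localization_maximal fun m _ => ?_
  obtain ⟨_, _⟩ := hn m
  rw [Ideal.map_span, Set.image_singleton, Ideal.mem_span_singleton]
  have h' := map_dvd (algebraMap R (Localization.AtPrime m)) h
  rw [map_pow, map_pow] at h'
  exact (IsIntegrallyClosed.pow_dvd_pow_iff hn0.ne').1 h'

theorem geom_sum_eq [IsDomain B] {L : Type u} [Field L] {N : ℕ} (hN : 0 < N) {ζ : L}
    (hζ : IsPrimitiveRoot ζ N) (i l : Fin N) :
    ∑ j : Fin N, ζ ^ ((N - (i : ℕ)) * j) * ζ ^ ((j : ℕ) * l) = if l = i then (N : L) else 0 := by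
  have key : ∀ j : Fin N, ζ ^ ((N - (i : ℕ)) * j) * ζ ^ ((j : ℕ) * l) =
      (ζ ^ ((N - (i : ℕ)) + l)) ^ (j : ℕ) := fun j => by
    rw [← pow_add, ← pow_mul, add_mul, mul_comm (j : ℕ) l]
  simp only [key]
  rw [Fin.sum_univ_eq_sum_range (fun j => (ζ ^ ((N - (i : ℕ)) + l)) ^ j)]
  split_ifs with h
  · subst h
    rw [Nat.sub_add_cancel l.2.le, hζ.pow_eq_one]
    simp
  · have hne : ζ ^ ((N - (i : ℕ)) + l) ≠ 1 := by
      rw [Ne, hζ.pow_eq_one_iff_dvd]
      intro hdvd
      obtain ⟨k, hk⟩ := hdvd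
      have := i.2
      have := l.2
      rcases k with _ | _ | k
      · omega
      · apply h; apply Fin.ext; omega
      · have : N * 2 ≤ N * (k + 1 + 1) := Nat.mul_le_mul_left _ (by omega)
        omega
    have h1 : (ζ ^ ((N - (i : ℕ)) + l)) ^ N = 1 := by
      rw [← pow_mul, mul_comm, pow_mul, hζ.pow_eq_one, one_pow]
    rw [_root_.geom_sum_eq hne, h1, sub_self, zero_div]

section Ev

variable {N : ℕ} {f : B} {t : C}

/-- the map from `B[t]/(t^N - f)` -/
noncomputable def psi (hD : IsDatum N f t) : AdjoinRoot (X ^ N - Polynomial.C f) →ₐ[B] C :=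
  AdjoinRoot.liftAlgHom _ (Algebra.ofId B C) t (by
    rw [eval₂_sub, eval₂_X_pow, eval₂_C, sub_eq_zero, hD.pow_eq]
    rfl)

theorem psi_root (hD : IsDatum N f t) : psi hD (AdjoinRoot.root _) = t :=
  AdjoinRoot.liftAlgHom_root _ _ _ _

theorem exists_coords (hN : 0 < N) (q : AdjoinRoot (X ^ N - Polynomial.C f)) :
    ∃ b : Fin N → B, q = ∑ i, b i • AdjoinRoot.root (X ^ N - Polynomial.C f) ^ (i : ℕ) := by
  let pb := AdjoinRoot.powerBasis' (monic_X_pow_sub_C f hN.ne')
  rcases subsingleton_or_nontrivial B with hB | hB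
  · haveI : Subsingleton (AdjoinRoot (X ^ N - Polynomial.C f)) := Module.subsingleton B _
    exact ⟨0, Subsingleton.elim _ _⟩
  have hdim : pb.dim = N := by
    show (X ^ N - Polynomial.C f : B[X]).natDegree = N
    exact natDegree_X_pow_sub_C
  refine ⟨fun i => pb.basis.repr q (Fin.cast hdim.symm i), ?_⟩
  conv_lhs => rw [← pb.basis.sum_repr q]
  refine (Fintype.sum_equiv (finCongr hdim) _ _ fun i => ?_)
  simp [PowerBasis.coe_basis, pb, AdjoinRoot.powerBasis'_gen]

theorem psi_sum (hD : IsDatum N f t) (b : Fin N → B) :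
    psi hD (∑ i, b i • AdjoinRoot.root (X ^ N - Polynomial.C f) ^ (i : ℕ)) =
      ∑ i, b i • t ^ (i : ℕ) := by
  simp only [map_sum, map_smul, map_pow, psi_root]

theorem psi_injective (hD : IsDatum N f t) (hN : 0 < N) : Function.Injective (psi hD) := by
  rw [injective_iff_map_eq_zero]
  intro q hq
  obtain ⟨b, rfl⟩ := exists_coords hN q
  rw [psi_sum] at hq
  simp [hD.inj b hq]

theorem exists_rep (hD : IsDatum N f t) (x : C) :
    ∃ (c : B) (q : AdjoinRoot (X ^ N - Polynomial.C f)), c ≠ 0 ∧ psi hD q = c • x := by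
  obtain ⟨c, hc, b, hb⟩ := hD.gen x
  exact ⟨c, _, hc, (psi_sum hD b).trans hb.symm⟩

variable [IsDomain B] {L : Type u} [Field L] [Algebra B L] [FaithfulSMul B L] {θ : L}

/-- the evaluation of `B[t]/(t^N - f)` at a root -/
noncomputable def chi (hθ : θ ^ N = algebraMap B L f) :
    AdjoinRoot (X ^ N - Polynomial.C f) →ₐ[B] L :=
  AdjoinRoot.liftAlgHom _ (Algebra.ofId B L) θ (by
    rw [eval₂_sub, eval₂_X_pow, eval₂_C, sub_eq_zero, hθ]
    rfl)

theorem chi_root (hθ : θ ^ N = algebraMap B L f) : chi hθ (AdjoinRoot.root _) = θ :=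
  AdjoinRoot.liftAlgHom_root _ _ _ _

theorem algebraMap_ne_zero {c : B} (hc : c ≠ 0) : algebraMap B L c ≠ 0 :=
  (map_ne_zero_iff _ (FaithfulSMul.algebraMap_injective B L)).2 hc

/-- the value at a root of an element of the normalisation -/
noncomputable def evFun (hD : IsDatum N f t) (hθ : θ ^ N = algebraMap B L f) (x : C) : L :=
  chi hθ (exists_rep hD x).choose_spec.choose / algebraMap B L (exists_rep hD x).choose

theorem evFun_spec (hD : IsDatum N f t) (hN : 0 < N) (hθ : θ ^ N = algebraMap B L f) (x : C)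
    {c : B} (hc : c ≠ 0) {q : AdjoinRoot (X ^ N - Polynomial.C f)} (h : psi hD q = c • x) :
    evFun hD hθ x = chi hθ q / algebraMap B L c := by
  have key : ∀ (c' : B) (q' : AdjoinRoot (X ^ N - Polynomial.C f)), c' ≠ 0 → psi hD q' = c' • x →
      chi hθ q' / algebraMap B L c' = chi hθ q / algebraMap B L c := fun c' q' hc' h' => by
    have e : c • q' = c' • q := psi_injective hD hN (by rw [map_smul, map_smul, h, h', smul_comm])
    have e' := congrArg (chi hθ) e
    rw [map_smul, map_smul, Algebra.smul_def, Algebra.smul_def] at e'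
    rw [div_eq_div_iff (algebraMap_ne_zero hc') (algebraMap_ne_zero hc)]
    linear_combination e'
  obtain ⟨hc', h'⟩ := (exists_rep hD x).choose_spec.choose_spec
  exact key _ _ hc' h'

/-- the value at a root, as an algebra homomorphism -/
noncomputable def ev (hD : IsDatum N f t) (hN : 0 < N) (hθ : θ ^ N = algebraMap B L f) : C →ₐ[B] L where
  toFun := evFun hD hθ
  map_one' := by
    rw [evFun_spec hD hN hθ 1 one_ne_zero (q := 1) (by rw [map_one, one_smul]), map_one, map_one,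
      div_one]
  map_mul' x y := by
    obtain ⟨c, q, hc, hq⟩ := exists_rep hD x
    obtain ⟨c', q', hc', hq'⟩ := exists_rep hD y
    rw [evFun_spec hD hN hθ x hc hq, evFun_spec hD hN hθ y hc' hq',
      evFun_spec hD hN hθ (x * y) (mul_ne_zero hc hc') (q := q * q')
        (by rw [map_mul, hq, hq', smul_mul_smul_comm]), map_mul, map_mul, div_mul_div_comm]
  map_zero' := by
    rw [evFun_spec hD hN hθ 0 one_ne_zero (q := 0) (by rw [map_zero, smul_zero]), map_zero, zero_div]
  map_add' x y := by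
    obtain ⟨c, q, hc, hq⟩ := exists_rep hD x
    obtain ⟨c', q', hc', hq'⟩ := exists_rep hD y
    rw [evFun_spec hD hN hθ x hc hq, evFun_spec hD hN hθ y hc' hq',
      evFun_spec hD hN hθ (x + y) (mul_ne_zero hc hc') (q := c' • q + c • q')
        (by rw [map_add, map_smul, map_smul, hq, hq', smul_add, smul_smul, smul_smul, mul_comm c' c]),
      div_add_div _ _ (algebraMap_ne_zero hc) (algebraMap_ne_zero hc'), map_add, map_smul, map_smul,
      Algebra.smul_def, Algebra.smul_def, map_mul]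
    ring
  commutes' r := by
    show evFun hD hθ _ = _
    rw [evFun_spec hD hN hθ _ one_ne_zero (q := algebraMap B _ r) (by rw [AlgHom.commutes, one_smul]),
      AlgHom.commutes, map_one, div_one]

theorem ev_t (hD : IsDatum N f t) (hN : 0 < N) (hθ : θ ^ N = algebraMap B L f) :
    ev hD hN hθ t = θ := by
  show evFun hD hθ t = θ
  rw [evFun_spec hD hN hθ t one_ne_zero (q := AdjoinRoot.root _) (by rw [psi_root, one_smul]),
    chi_root, map_one, div_one]

/-- The coordinates from the values at the roots. -/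
theorem coord_eq (hD : IsDatum N f t) (hN : 0 < N) (hNB : IsUnit (N : B))
    {ζ : L} (hζ : IsPrimitiveRoot ζ N) (hθj : ∀ j : Fin N, (ζ ^ (j : ℕ) * θ) ^ N = algebraMap B L f)
    {x : C} {c : B} (hc : c ≠ 0)
    {b : Fin N → B} (hb : c • x = ∑ i, b i • t ^ (i : ℕ)) (i : Fin N) :
    ∃ v : B, algebraMap B L (b i) * θ ^ (i : ℕ) / algebraMap B L c =
      algebraMap B L v * ∑ j : Fin N, ζ ^ ((N - (i : ℕ)) * j) * ev hD hN (hθj j) x := by
  obtain ⟨v, hv⟩ := hNB.exists_left_inv
  refine ⟨v, ?_⟩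
  let z : Fin N → L := fun j => ev hD hN (hθj j) x
  have hz : ∀ j : Fin N, algebraMap B L c * z j =
      ∑ l, algebraMap B L (b l) * (ζ ^ (j : ℕ) * θ) ^ (l : ℕ) := fun j => by
    have h := congrArg (ev hD hN (hθj j)) hb
    rw [map_smul, Algebra.smul_def] at h
    simp only [z]
    rw [h, map_sum]
    refine Finset.sum_congr rfl fun l _ => ?_
    rw [map_smul, Algebra.smul_def, map_pow, ev_t]
  have hsum : ∑ j : Fin N, ζ ^ ((N - (i : ℕ)) * j) * (algebraMap B L c * z j) =
      (N : L) * (algebraMap B L (b i) * θ ^ (i : ℕ)) := by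
    simp only [hz, Finset.mul_sum]
    rw [Finset.sum_comm]
    have : ∀ l : Fin N, ∑ j : Fin N, ζ ^ ((N - (i : ℕ)) * j) *
        (algebraMap B L (b l) * (ζ ^ (j : ℕ) * θ) ^ (l : ℕ)) =
        (if l = i then (N : L) else 0) * (algebraMap B L (b l) * θ ^ (l : ℕ)) := fun l => by
      rw [← geom_sum_eq (B := B) hN hζ i l, Finset.sum_mul]
      refine Finset.sum_congr rfl fun j _ => ?_
      rw [mul_pow, ← pow_mul]
      ring
    simp only [this]
    simp
  change _ = algebraMap B L v * ∑ j : Fin N, ζ ^ ((N - (i : ℕ)) * j) * z j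
  rw [div_eq_iff (algebraMap_ne_zero hc), mul_assoc, Finset.sum_mul]
  have : ∀ j : Fin N, ζ ^ ((N - (i : ℕ)) * j) * z j * algebraMap B L c =
      ζ ^ ((N - (i : ℕ)) * j) * (algebraMap B L c * z j) := fun j => by ring
  simp only [this]
  rw [hsum, ← map_natCast (algebraMap B L) N, ← mul_assoc, ← map_mul, hv, map_one, one_mul]

/-- Integrality of the coordinates. -/
theorem integral_coord (hD : IsDatum N f t) (hN : 0 < N) (hNB : IsUnit (N : B))
    {ζ : L} (hζ : IsPrimitiveRoot ζ N) (hθ : θ ^ N = algebraMap B L f) {x : C} {c : B} (hc : c ≠ 0)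
    {b : Fin N → B} (hb : c • x = ∑ i, b i • t ^ (i : ℕ)) (i : Fin N) :
    IsIntegral B (algebraMap B L (b i) * θ ^ (i : ℕ) / algebraMap B L c) := by
  have hθj : ∀ j : Fin N, (ζ ^ (j : ℕ) * θ) ^ N = algebraMap B L f := fun j => by
    rw [mul_pow, ← pow_mul, mul_comm (j : ℕ) N, pow_mul, hζ.pow_eq_one, one_pow, one_mul, hθ]
  obtain ⟨v, hw⟩ := coord_eq hD hN hNB hζ hθj hc hb i
  rw [hw]
  refine isIntegral_algebraMap.mul (IsIntegral.sum _ fun j _ => IsIntegral.mul ?_ ((hD.integral x).map _))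
  exact ((hζ.isIntegral hN).tower_top (A := B)).pow _

end Ev

section Main

variable [IsDomain B] [IsIntegrallyClosed B] {N : ℕ} {f : B} {t : C}

theorem coord_pow (hD : IsDatum N f t) (hN : 0 < N) (hNB : IsUnit (N : B)) {x : C} {c : B}
    (hc : c ≠ 0) {b : Fin N → B} (hb : c • x = ∑ i, b i • t ^ (i : ℕ)) (i : Fin N) :
    c ^ N ∣ b i ^ N * f ^ (i : ℕ) := by
  let K := FractionRing B
  let L := AlgebraicClosure K
  haveI : FaithfulSMul B L := (faithfulSMul_iff_algebraMap_injective B L).2 (by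
    rw [IsScalarTower.algebraMap_eq B K L]
    exact (algebraMap K L).injective.comp (IsFractionRing.injective B K))
  haveI : NeZero (N : L) := ⟨by
    rw [← map_natCast (algebraMap B L)]
    exact algebraMap_ne_zero hNB.ne_zero⟩
  obtain ⟨ζ, hζ⟩ := HasEnoughRootsOfUnity.exists_primitiveRoot L N
  obtain ⟨θ, hθ⟩ := IsAlgClosed.exists_pow_nat_eq (algebraMap B L f) hN
  have h := (integral_coord hD hN hNB hζ hθ hc hb i).pow N
  have e : (algebraMap B L (b i) * θ ^ (i : ℕ) / algebraMap B L c) ^ N =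
      algebraMap K L (algebraMap B K (b i ^ N * f ^ (i : ℕ)) / algebraMap B K (c ^ N)) := by
    rw [map_div₀, ← IsScalarTower.algebraMap_apply, ← IsScalarTower.algebraMap_apply, map_mul,
      map_pow, map_pow, map_pow, div_pow, mul_pow, ← pow_mul, mul_comm (i : ℕ) N, pow_mul, hθ]
  rw [e] at h
  obtain ⟨y, hy⟩ := IsIntegrallyClosed.isIntegral_iff.1 ((isIntegral_algebraMap_iff (algebraMap K L).injective).1 h)
  refine ⟨y, ?_⟩
  apply IsFractionRing.injective B K
  have hc' : algebraMap B K (c ^ N) ≠ 0 :=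
    (map_ne_zero_iff _ (IsFractionRing.injective B K)).2 (pow_ne_zero _ hc)
  rw [map_mul (algebraMap B K) (c ^ N) y, hy, mul_div_cancel₀ _ hc']

variable {s : ℕ} (u : Bˣ) (h : Fin s → B) (α : Fin s → ℕ)

/-- the denominator of the `i`-th generator -/
def Hd (N i : ℕ) : B := ∏ j, h j ^ (i * α j / N)

/-- the remaining part of `f ^ i` -/
def Rm (N i : ℕ) : B := ∏ j, h j ^ (i * α j % N)

omit [IsDomain B] [IsIntegrallyClosed B] in
theorem pow_eq_Hd_Rm (i : ℕ) :
    ((u : B) * ∏ j, h j ^ α j) ^ i = (u : B) ^ i * (Hd h α N i ^ N * Rm h α N i) := by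
  rw [mul_pow, Hd, Rm, ← Finset.prod_pow, ← Finset.prod_pow, ← Finset.prod_mul_distrib]
  congr 1
  refine Finset.prod_congr rfl fun j _ => ?_
  rw [← pow_mul, ← pow_mul, ← pow_add]
  congr 1
  rw [mul_comm (α j) i, mul_comm (i * α j / N) N, Nat.div_add_mod]

omit [IsIntegrallyClosed B] in
theorem Hd_ne_zero (hh : ∀ j, h j ≠ 0) (i : ℕ) : Hd h α N i ≠ 0 :=
  Finset.prod_ne_zero_iff.2 fun j _ => pow_ne_zero _ (hh j)

theorem dvd_core (hN : 0 < N) (hh : ∀ j, h j ≠ 0)
    (hred : ∀ S : Finset (Fin s), IsReduced (B ⧸ Ideal.span {∏ j ∈ S, h j}))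
    {c z : B} {i : ℕ} (hd : c ^ N ∣ z ^ N * Rm h α N i) : c ∣ z := by
  classical
  rcases eq_or_ne c 0 with rfl | hc
  · rw [zero_pow hN.ne', zero_dvd_iff, mul_eq_zero] at hd
    rcases hd with hz | hr
    · rw [pow_eq_zero_iff hN.ne'] at hz; rw [hz]
    · exact absurd hr (Finset.prod_ne_zero_iff.2 fun j _ => pow_ne_zero _ (hh j))
  let S := Finset.univ.filter fun j => i * α j % N ≠ 0
  let P := ∏ j ∈ S, h j
  let Q := ∏ j ∈ S, h j ^ (N - i * α j % N)
  have hRS : Rm h α N i = ∏ j ∈ S, h j ^ (i * α j % N) := by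
    rw [Rm]
    refine (Finset.prod_subset (Finset.subset_univ S) fun j _ hj => ?_).symm
    rw [show i * α j % N = 0 by simpa [S] using hj, pow_zero]
  have hPQ : P ^ N = Rm h α N i * Q := by
    rw [hRS, ← Finset.prod_mul_distrib, ← Finset.prod_pow]
    refine Finset.prod_congr rfl fun j _ => ?_
    rw [← pow_add, Nat.add_sub_cancel' (Nat.mod_lt _ hN).le]
  have hP : P ≠ 0 := Finset.prod_ne_zero_iff.2 fun j _ => hh j
  have hPdQ : P ∣ Q := Finset.prod_dvd_prod_of_dvd _ _ fun j hj =>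
    dvd_pow_self _ (by have := Nat.mod_lt (i * α j) hN; omega)
  obtain ⟨y, hy⟩ := hd
  have h1 : (z * P) ^ N = c ^ N * (y * Q) := by
    rw [mul_pow, hPQ]; linear_combination Q * hy
  obtain ⟨w, hw⟩ := (IsIntegrallyClosed.pow_dvd_pow_iff hN.ne').1 ⟨y * Q, h1⟩
  have hwN : w ^ N = y * Q := by
    rw [hw, mul_pow] at h1
    exact mul_left_cancel₀ (pow_ne_zero _ hc) h1
  haveI := hred S
  have hPw : P ∣ w := by
    rw [← Ideal.mem_span_singleton, ← Ideal.Quotient.eq_zero_iff_mem]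
    refine IsReduced.eq_zero _ ⟨N, ?_⟩
    rw [← map_pow, Ideal.Quotient.eq_zero_iff_mem, Ideal.mem_span_singleton, hwN]
    exact dvd_mul_of_dvd_right hPdQ _
  obtain ⟨w', rfl⟩ := hPw
  exact ⟨w', mul_right_cancel₀ hP (by rw [hw]; ring)⟩

variable {u h α}

theorem exists_gen (hD : IsDatum N f t) (hN : 0 < N) (hf : f = (u : B) * ∏ j, h j ^ α j) (i : ℕ) :
    ∃ e : C, Hd h α N i • e = t ^ i := by
  have hd : algebraMap B C (Hd h α N i) ^ N ∣ (t ^ i) ^ N := by
    rw [← pow_mul, mul_comm i N, pow_mul, hD.pow_eq, ← map_pow, ← map_pow, hf,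
      pow_eq_Hd_Rm (N := N)]
    exact map_dvd _ (Dvd.intro ((u : B) ^ i * Rm h α N i) (by ring))
  obtain ⟨e, he⟩ := dvd_of_pow_dvd hD.normal hN hd
  exact ⟨e, by rw [Algebra.smul_def, ← he]⟩

/-- the `i`-th generator -/
noncomputable def gen (hD : IsDatum N f t) (hN : 0 < N) (hf : f = (u : B) * ∏ j, h j ^ α j) (i : ℕ) : C :=
  (exists_gen hD hN hf i).choose

theorem Hd_smul_gen (hD : IsDatum N f t) (hN : 0 < N) (hf : f = (u : B) * ∏ j, h j ^ α j) (i : ℕ) :
    Hd h α N i • gen hD hN hf i = t ^ i :=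
  (exists_gen hD hN hf i).choose_spec

/-- Every element is a combination of the generators. -/
theorem exists_sum_gen (hD : IsDatum N f t) (hN : 0 < N) (hNB : IsUnit (N : B))
    (hf : f = (u : B) * ∏ j, h j ^ α j) (hh : ∀ j, h j ≠ 0)
    (hred : ∀ S : Finset (Fin s), IsReduced (B ⧸ Ideal.span {∏ j ∈ S, h j})) (x : C) :
    ∃ y : Fin N → B, x = ∑ i, y i • gen hD hN hf (i : ℕ) := by
  obtain ⟨c, hc, b, hb⟩ := hD.gen x
  have hdvd : ∀ i : Fin N, c ∣ b i * Hd h α N i := fun i => by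
    refine dvd_core h α hN hh hred (i := (i : ℕ)) ?_
    have h0 := coord_pow hD hN hNB hc hb i
    rw [hf, pow_eq_Hd_Rm (N := N)] at h0
    have e : b i ^ N * ((u : B) ^ (i : ℕ) * (Hd h α N i ^ N * Rm h α N i)) =
        (b i * Hd h α N i) ^ N * Rm h α N i * (u : B) ^ (i : ℕ) := by ring
    rw [e] at h0
    exact (u.isUnit.pow _).dvd_mul_right.1 h0
  choose y hy using hdvd
  refine ⟨y, sub_eq_zero.1 (hD.torsion c hc _ ?_)⟩
  rw [smul_sub, sub_eq_zero, hb, Finset.smul_sum]
  refine Finset.sum_congr rfl fun i _ => ?_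
  rw [smul_smul, ← hy i, mul_smul, Hd_smul_gen]

theorem sum_gen_eq_zero (hD : IsDatum N f t) (hN : 0 < N)
    (hf : f = (u : B) * ∏ j, h j ^ α j) (hh : ∀ j, h j ≠ 0) {y : Fin N → B}
    (hy : ∑ i, y i • gen hD hN hf (i : ℕ) = 0) : y = 0 := by
  classical
  have e : ∀ i : Fin N, ((∏ l : Fin N, Hd h α N (l : ℕ)) * y i) • gen hD hN hf (i : ℕ) =
      ((∏ l ∈ (Finset.univ : Finset (Fin N)).erase i, Hd h α N (l : ℕ)) * y i) • t ^ (i : ℕ) := fun i => by
    rw [← Hd_smul_gen hD hN hf, smul_smul]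
    congr 1
    rw [← Finset.prod_erase_mul (Finset.univ : Finset (Fin N)) (fun l : Fin N => Hd h α N (l : ℕ)) (Finset.mem_univ i)]
    ring
  have h0 : ∑ i, ((∏ l ∈ (Finset.univ : Finset (Fin N)).erase i, Hd h α N (l : ℕ)) * y i) • t ^ (i : ℕ) = 0 := by
    simp only [← e, mul_smul, ← Finset.smul_sum, hy, smul_zero]
  funext i
  exact (mul_eq_zero.1 (congrFun (hD.inj _ h0) i)).resolve_left
    (Finset.prod_ne_zero_iff.2 fun l _ => Hd_ne_zero h α hh _)

/-- When `f` is a unit the root generates. -/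
theorem psi_surjective_of_isUnit (hD : IsDatum N f t) (hN : 0 < N) (hNB : IsUnit (N : B))
    (hf : IsUnit f) : Function.Surjective (psi hD) := by
  intro x
  obtain ⟨c, hc, b, hb⟩ := hD.gen x
  have hdvd : ∀ i : Fin N, c ∣ b i := fun i => by
    refine (IsIntegrallyClosed.pow_dvd_pow_iff hN.ne').1 ?_
    exact (hf.pow _).dvd_mul_right.1 (coord_pow hD hN hNB hc hb i)
  choose y hy using hdvd
  refine ⟨∑ i, y i • AdjoinRoot.root (X ^ N - Polynomial.C f) ^ (i : ℕ), sub_eq_zero.1 (hD.torsion c hc _ ?_)⟩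
  rw [smul_sub, sub_eq_zero, hb, psi_sum, Finset.smul_sum]
  refine Finset.sum_congr rfl fun i _ => ?_
  rw [smul_smul, ← hy i]

end Main

end Groth.Agent.CycCov7
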