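import Groth.Agent.CycCov7.Local
import Groth.Agent.ModPairLib.Basic

/-!
Pull back of the components to the cyclic cover.
-/

universe u

open CategoryTheory AlgebraicGeometry TopologicalSpace Opposite

namespace Groth.Agent.CycCov7

variable {X Y : Scheme.{u}}

theorem map_germ_eq (I : Y.IdealSheafData) (V : Y.affineOpens) (V' : Y.affineOpens) (y : Y) (h : y ∈ V.1)
    (h' : y ∈ V'.1) :
    (I.ideal V).map (Y.presheaf.germ V.1 y h).hom = (I.ideal V').map (Y.presheaf.germ V'.1 y h').hom := by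
  obtain ⟨W, hW, hyW, hWle⟩ := exists_isAffineOpen_mem_and_subset (U := V.1 ⊓ V'.1) (x := y) ⟨h, h'⟩
  have h1 : W ≤ V.1 := fun z hz => (hWle hz).1
  have h2 : W ≤ V'.1 := fun z hz => (hWle hz).2
  have e1 := congrArg (Ideal.map (Y.presheaf.germ W y hyW).hom) (I.map_ideal (U := ⟨W, hW⟩) (V := V) h1)
  have e2 := congrArg (Ideal.map (Y.presheaf.germ W y hyW).hom) (I.map_ideal (U := ⟨W, hW⟩) (V := V') h2)
  rw [Ideal.map_map, ← CommRingCat.hom_comp] at e1 e2
  erw [TopCat.Presheaf.germ_res] at e1 e2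
  exact e1.trans e2.symm

theorem ideal_eq_of_locally {I J : Y.IdealSheafData} (V : Y.affineOpens)
    (h : ∀ y ∈ V.1, ∃ V' : Y.affineOpens, y ∈ V'.1 ∧ I.ideal V' = J.ideal V') : I.ideal V = J.ideal V := by
  rw [V.2.ideal_ext_iff]
  intro y hy
  obtain ⟨V', hy', he⟩ := h y hy
  rw [map_germ_eq I V V' y hy hy', map_germ_eq J V V' y hy hy', he]

variable {k : Type u} [Field k] (f : X ⟶ Spec (CommRingCat.of k)) [Smooth f] [IsIntegral X]
  {L : X.Modules} {N : ℕ} {s : Coh.structureModule X ⟶ CohB1.tensorPow L N} {π : Y ⟶ X}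

include f in
/-- Near each point over the one-component locus the preimages are powers of one uniformiser. -/
theorem exists_branch (hL : PicF.IsInvertible L) (hN : 0 < N) (hNk : (N : k) ≠ 0) {r : ℕ}
    (D : Fin r → X.IdealSheafData) (α : Fin r → ℕ) (hD : LogNCD.IsNCD D f)
    (hs : CycCov.IsZeroDiv (CohB1.tensorPow L N) s (CycCov.divIdeal D α))
    (R : CycCov.Root L N s π) (hR : CycCov.IsCover R) (W : X.Opens)
    (hW : ∀ x ∈ W, ∀ j j' : Fin r, x ∈ (D j).support → x ∈ (D j').support → j = j') (y : Y) (hy : π.base y ∈ W) :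
    ∃ V' : Y.affineOpens, y ∈ V'.1 ∧ ∀ j : Fin r,
      ((D j).comap π).ideal V' = (((D j).comap π).ideal V').radical ^ (N / Nat.gcd N (α j)) := by
  classical
  obtain ⟨U, hxU, hUW, e, he, h, w, g, hg, hh, hh0, hh1, hreg, hred, hgw, hdat⟩ :=
    exists_local f hL hN D α hD hs R hR (π.base y) W hy
  haveI : Nonempty U.1 := ⟨⟨π.base y, hxU⟩⟩
  haveI := isIntegrallyClosed_Γ f U
  haveI := hR.1
  letI := (π.app U.1).hom.toAlgebra
  let V' : Y.affineOpens := ⟨π ⁻¹ᵁ U.1, U.2.preimage π⟩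
  refine ⟨V', hxU, fun j => ?_⟩
  have hmap : ((D j).comap π).ideal V' = Ideal.span {algebraMap Γ(X, U.1) Γ(Y, π ⁻¹ᵁ U.1) (h j)} := by
    rw [ModPairLib.ideal_comap (D j) π U V' le_rfl, ← Scheme.Hom.app_eq_appLE, hh, Ideal.map_span, Set.image_singleton]
    rfl
  rw [hmap]
  by_cases hj : π.base y ∈ (D j).support
  · have hgj : g = (w : Γ(X, U.1)) * h j ^ α j := by
      rw [hgw, Finset.prod_eq_single j]
      · intro j' _ hne
        rw [hh1 j' fun h' => hne (hW _ hy j' j h' hj), one_pow]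
      · simp
    have hNB := isUnit_natCast f hNk U.1
    haveI := hreg j
    obtain ⟨a, b, hab⟩ := exists_unif hdat hN hgj (hh0 j)
    rw [radical_span hdat hN hNB hgj (hh0 j) (CycCovLib.isReduced_of_isRegularRing _) hab]
    exact span_eq hdat hN hab
  · rw [hh1 j hj, map_one, Ideal.span_singleton_one]
    rw [show (⊤ : Ideal Γ(Y, V'.1)).radical = ⊤ from Ideal.radical_eq_top.2 rfl, Ideal.top_pow]

end Groth.Agent.CycCov7
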