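import Groth.Prelude.Def_CycCov
import Groth.Agent.InvX.Tensor

/-!
Frames for cyclic covers.
-/

universe u

open CategoryTheory AlgebraicGeometry TopologicalSpace Opposite

namespace Groth.Agent.CycCov7

variable {X : Scheme.{u}} {L : X.Modules}

theorem isGen_of_isFrame {U : X.Opens} {e : Γ(L, U)} (he : InvX.IsFrame e) :
    CycCov.IsGen L U (show L.val.obj (op U) from e) := by
  have h := he U le_rfl
  simp only [AModX.res_self] at h
  exact h

theorem isFrame_lpow {U : X.Opens} {e : Γ(L, U)} (he : InvX.IsFrame e) : ∀ n : ℕ,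
    InvX.IsFrame (M := CohB1.tensorPow L n) (U := U)
      (show Γ(CohB1.tensorPow L n, U) from CycCov.lpow L U (show L.val.obj (op U) from e) n)
  | 0 => InvX.isFrame_one U
  | n + 1 => InvX.isFrame_tmul (isFrame_lpow he n) he

theorem res_lpow {U V : X.Opens} (h : V ≤ U) (e : L.val.obj (op U)) : ∀ n : ℕ,
    (CohB1.tensorPow L n).val.map (homOfLE h).op (CycCov.lpow L U e n) =
      CycCov.lpow L V (L.val.map (homOfLE h).op e) n
  | 0 => PresheafOfModules.unit_map_one _ _
  | n + 1 => by
    show (CohB1.tensorMod (CohB1.tensorPow L n) L).val.map (homOfLE h).op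
      (SecTwist.tmul _ L U (CycCov.lpow L U e n) e) = _
    rw [SecTwist.map_tmul]
    exact congrArg (fun a => SecTwist.tmul _ L V a _) (res_lpow h e n)

/-- An affine frame near a point inside a given open. -/
theorem exists_affine_frame (hL : PicF.IsInvertible L) {x : X} (V : X.Opens) (hx : x ∈ V) :
    ∃ (U : X.affineOpens) (_ : x ∈ U.1) (_ : U.1 ≤ V) (e : Γ(L, U.1)), InvX.IsFrame e := by
  obtain ⟨W, hxW, e, he⟩ := InvX.exists_frame hL x
  obtain ⟨U, hU, hxU, hUV⟩ := exists_isAffineOpen_mem_and_subset (U := V ⊓ W) (x := x) ⟨hx, hxW⟩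
  exact ⟨⟨U, hU⟩, hxU, fun y hy => (hUV hy).1,
    AModX.res L (fun y hy => (hUV hy).2) e, he.res _⟩

/-- The equation in a frame. -/
theorem exists_coord_eq {N : ℕ} (s : Coh.structureModule X ⟶ CohB1.tensorPow L N) {U : X.Opens}
    {e : Γ(L, U)} (he : InvX.IsFrame e) :
    ∃ f : Γ(X, U), SecTwist.val s U = f • CycCov.lpow L U (show L.val.obj (op U) from e) N := by
  have h := (isFrame_lpow he N) U le_rfl
  simp only [AModX.res_self] at h
  obtain ⟨f, hf⟩ := h.2 (show Γ(CohB1.tensorPow L N, U) from SecTwist.val s U)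
  exact ⟨f, hf.symm⟩

theorem span_coord_eq {N : ℕ} (s : Coh.structureModule X ⟶ CohB1.tensorPow L N)
    (I : X.IdealSheafData) (hs : CycCov.IsZeroDiv (CohB1.tensorPow L N) s I) (U : X.affineOpens)
    {e : Γ(L, U.1)} (he : InvX.IsFrame e) {f : Γ(X, U.1)}
    (hf : SecTwist.val s U.1 = f • CycCov.lpow L U.1 (show L.val.obj (op U.1) from e) N) :
    I.ideal U = Ideal.span {f} := by
  have hb := (isFrame_lpow he N) U.1 le_rfl
  simp only [AModX.res_self] at hb
  let l : (CohB1.tensorPow L N).val.obj (op U.1) := CycCov.lpow L U.1 (show L.val.obj (op U.1) from e) N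
  have hbij : Function.Bijective (fun b : Γ(X, U.1) => b • l) := hb
  have htop : (⊤ : Submodule Γ(X, U.1) ((CohB1.tensorPow L N).val.obj (op U.1))) = Submodule.span Γ(X, U.1) {l} := by
    refine (eq_top_iff.2 fun m _ => ?_).symm
    obtain ⟨b, hb⟩ := hbij.2 m
    exact Submodule.mem_span_singleton.2 ⟨b, hb⟩
  have h := hs U
  rw [hf, htop] at h
  ext a
  rw [Ideal.mem_span_singleton']
  constructor
  · intro ha
    have : a • l ∈ Submodule.span Γ(X, U.1) {f • l} := by
      rw [h]; exact Submodule.smul_mem_smul ha (Submodule.mem_span_singleton_self l)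
    obtain ⟨c, hc⟩ := Submodule.mem_span_singleton.1 this
    exact ⟨c, hbij.1 (show (c * f) • l = a • l by rw [mul_smul]; exact hc)⟩
  · rintro ⟨c, rfl⟩
    have : f • l ∈ I.ideal U • Submodule.span Γ(X, U.1) {l} := h ▸ Submodule.mem_span_singleton_self _
    obtain ⟨d, hd, hd'⟩ := Submodule.mem_smul_span_singleton.1 this
    exact Ideal.mul_mem_left _ _ (hbij.1 hd' ▸ hd)

end Groth.Agent.CycCov7
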