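import Groth.Agent.CycCov7.Alg
import Groth.Agent.CycCovLib.Cyclic
import Mathlib.RingTheory.IntegralClosure.IsIntegralClosure.Basic

/-!
The normalised cyclic cover along a single regular divisor: ramification, radical, regularity.
-/

universe u

namespace Groth.Agent.CycCov7

open Polynomial

variable {B C : Type u} [CommRing B] [CommRing C] [Algebra B C] [IsDomain B] [IsIntegrallyClosed B]
variable {N : ℕ} {f : B} {t : C} {u : Bˣ} {h : B} {α : ℕ}

omit [IsDomain B] [IsIntegrallyClosed B] in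
theorem f_eq_prod (hf : f = (u : B) * h ^ α) :
    f = (u : B) * ∏ j : Fin 1, (fun _ => h) j ^ (fun _ => α) j := by
  simpa using hf

theorem hred_one (hred : IsReduced (B ⧸ Ideal.span {h})) (S : Finset (Fin 1)) :
    IsReduced (B ⧸ Ideal.span {∏ j ∈ S, (fun _ : Fin 1 => h) j}) := by
  rcases S.eq_empty_or_nonempty with rfl | hS
  · have e : Ideal.span {∏ j ∈ (∅ : Finset (Fin 1)), h} = (⊤ : Ideal B) := by simp
    haveI : Subsingleton (B ⧸ Ideal.span {∏ j ∈ (∅ : Finset (Fin 1)), h}) :=
      Ideal.Quotient.subsingleton_iff.2 e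
    exact ⟨fun x _ => Subsingleton.elim _ _⟩
  · have : S = {0} := Finset.eq_singleton_iff_nonempty_unique_mem.2 ⟨hS, fun x _ => Subsingleton.elim _ _⟩
    subst this
    rw [show ∏ j ∈ ({0} : Finset (Fin 1)), (fun _ : Fin 1 => h) j = h from Finset.prod_singleton _ _]
    exact hred

omit [IsIntegrallyClosed B] in
theorem Hd_one (i : ℕ) : Hd (fun _ : Fin 1 => h) (fun _ => α) N i = h ^ (i * α / N) := by
  simp [Hd]

omit [IsIntegrallyClosed B] in
theorem Rm_one (i : ℕ) : Rm (fun _ : Fin 1 => h) (fun _ => α) N i = h ^ (i * α % N) := by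
  simp [Rm]

theorem gen_pow (hD : IsDatum N f t) (hN : 0 < N) (hf : f = (u : B) * h ^ α) (hh : h ≠ 0) (i : ℕ) :
    gen hD hN (f_eq_prod hf) i ^ N = algebraMap B C ((u : B) ^ i * h ^ (i * α % N)) := by
  refine sub_eq_zero.1 (hD.torsion ((h ^ (i * α / N)) ^ N) (pow_ne_zero _ (pow_ne_zero _ hh)) _ ?_)
  rw [smul_sub, sub_eq_zero, ← smul_pow, ← Hd_one (N := N), Hd_smul_gen, ← pow_mul, mul_comm i N,
    pow_mul, hD.pow_eq, Algebra.smul_def, ← map_mul, ← map_pow]
  congr 1
  rw [f_eq_prod hf, pow_eq_Hd_Rm (N := N), Rm_one]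
  ring

/-- A uniformiser along the branch divisor. -/
theorem exists_unif (hD : IsDatum N f t) (hN : 0 < N) (hf : f = (u : B) * h ^ α) (hh : h ≠ 0) :
    ∃ (e : C) (w : Cˣ), e ^ N = (w : C) * algebraMap B C h ^ Nat.gcd N α := by
  rcases (Nat.le_of_dvd hN (Nat.gcd_dvd_left N α)).eq_or_lt with hg | hg
  · exact ⟨algebraMap B C h, 1, by rw [hg, Units.val_one, one_mul]⟩
  · rw [Nat.gcd_comm] at hg ⊢
    obtain ⟨i, -, hi⟩ := Nat.exists_mul_mod_eq_gcd hg
    refine ⟨gen hD hN (f_eq_prod hf) i, Units.map (algebraMap B C : B →* C) (u ^ i), ?_⟩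
    rw [gen_pow hD hN hf hh, mul_comm i α, hi, map_mul, map_pow (algebraMap B C) h]
    congr 1

theorem associated_of_pow (hD : IsDatum N f t) (hN : 0 < N) {e : C} {w : Cˣ}
    (he : e ^ N = (w : C) * algebraMap B C h ^ Nat.gcd N α) :
    algebraMap B C h ∣ e ^ (N / Nat.gcd N α) ∧ e ^ (N / Nat.gcd N α) ∣ algebraMap B C h := by
  have hg : 0 < Nat.gcd N α := Nat.gcd_pos_of_pos_left _ hN
  have hm : (e ^ (N / Nat.gcd N α)) ^ Nat.gcd N α = (w : C) * algebraMap B C h ^ Nat.gcd N α := by
    rw [← pow_mul, Nat.div_mul_cancel (Nat.gcd_dvd_left N α), he]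
  exact ⟨dvd_of_pow_dvd hD.normal hg (hm ▸ dvd_mul_left _ _),
    dvd_of_pow_dvd hD.normal hg ⟨((w⁻¹ : Cˣ) : C), by
      rw [hm, mul_comm (w : C), mul_assoc, Units.mul_inv, mul_one]⟩⟩

theorem span_eq (hD : IsDatum N f t) (hN : 0 < N) {e : C} {w : Cˣ}
    (he : e ^ N = (w : C) * algebraMap B C h ^ Nat.gcd N α) :
    Ideal.span {algebraMap B C h} = Ideal.span {e} ^ (N / Nat.gcd N α) := by
  rw [Ideal.span_singleton_pow]
  obtain ⟨h1, h2⟩ := associated_of_pow hD hN he
  exact le_antisymm (Ideal.span_singleton_le_span_singleton.2 h2) (Ideal.span_singleton_le_span_singleton.2 h1)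

/-- An algebraically closed field with the roots needed. -/
theorem exists_roots (hN : 0 < N) (hNB : IsUnit (N : B)) (f : B) :
    ∃ (L : Type u) (_ : Field L) (_ : Algebra B L) (_ : FaithfulSMul B L) (ζ θ : L),
      IsPrimitiveRoot ζ N ∧ θ ^ N = algebraMap B L f ∧
      ∀ a b : B, b ≠ 0 → IsIntegral B (algebraMap B L a / algebraMap B L b) → b ∣ a := by
  let K := FractionRing B
  let L := AlgebraicClosure K
  haveI : FaithfulSMul B L := (faithfulSMul_iff_algebraMap_injective B L).2 (by
    rw [IsScalarTower.algebraMap_eq B K L]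
    exact (algebraMap K L).injective.comp (IsFractionRing.injective B K))
  haveI : NeZero (N : L) := ⟨by
    rw [← map_natCast (algebraMap B L)]
    exact algebraMap_ne_zero hNB.ne_zero⟩
  obtain ⟨ζ, hζ⟩ := HasEnoughRootsOfUnity.exists_primitiveRoot L N
  obtain ⟨θ, hθ⟩ := IsAlgClosed.exists_pow_nat_eq (algebraMap B L f) hN
  refine ⟨L, inferInstance, inferInstance, inferInstance, ζ, θ, hζ, hθ, fun a b hb hi => ?_⟩
  rw [show algebraMap B L a / algebraMap B L b = algebraMap K L (algebraMap B K a / algebraMap B K b) by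
    rw [map_div₀, ← IsScalarTower.algebraMap_apply, ← IsScalarTower.algebraMap_apply]] at hi
  obtain ⟨y, hy⟩ := IsIntegrallyClosed.isIntegral_iff.1
    ((isIntegral_algebraMap_iff (algebraMap K L).injective).1 hi)
  refine ⟨y, IsFractionRing.injective B K ?_⟩
  rw [map_mul, hy, mul_div_cancel₀ _ ((map_ne_zero_iff _ (IsFractionRing.injective B K)).2 hb)]

theorem radical_span (hD : IsDatum N f t) (hN : 0 < N) (hNB : IsUnit (N : B))
    (hf : f = (u : B) * h ^ α) (hh : h ≠ 0) (hred : IsReduced (B ⧸ Ideal.span {h}))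
    {e : C} {w : Cˣ} (he : e ^ N = (w : C) * algebraMap B C h ^ Nat.gcd N α) :
    (Ideal.span {algebraMap B C h}).radical = Ideal.span {e} := by
  classical
  have hg : 0 < Nat.gcd N α := Nat.gcd_pos_of_pos_left _ hN
  have hm : 0 < N / Nat.gcd N α := Nat.div_pos (Nat.le_of_dvd hN (Nat.gcd_dvd_left N α)) hg
  have heh : algebraMap B C h ∈ Ideal.span {e} := Ideal.mem_span_singleton.2
    ((dvd_pow_self e hm.ne').trans (associated_of_pow hD hN he).2)
  refine le_antisymm (fun x hx => ?_) ((Ideal.span_singleton_le_iff_mem _).2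
    ⟨N / Nat.gcd N α, Ideal.mem_span_singleton.2 (associated_of_pow hD hN he).1⟩)
  obtain ⟨n, hn⟩ := hx
  obtain ⟨z, hz⟩ := Ideal.mem_span_singleton.1 hn
  obtain ⟨y, hy⟩ := exists_sum_gen hD hN hNB (f_eq_prod hf) (fun _ => hh) (hred_one hred) x
  rw [hy]
  refine Ideal.sum_mem _ fun i _ => ?_
  by_cases hr : (i : ℕ) * α % N = 0
  · obtain ⟨L, _, _, _, ζ, θ, hζ, hθ, hint⟩ := exists_roots hN hNB f
    have hθj : ∀ j : Fin N, (ζ ^ (j : ℕ) * θ) ^ N = algebraMap B L f := fun j => by
      rw [mul_pow, ← pow_mul, mul_comm (j : ℕ) N, pow_mul, hζ.pow_eq_one, one_pow, one_mul, hθ]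
    let H : Fin N → B := fun l => Hd (fun _ : Fin 1 => h) (fun _ => α) N (l : ℕ)
    have hH : ∀ l, H l ≠ 0 := fun l => Hd_ne_zero _ _ (fun _ => hh) _
    let c : B := ∏ l, H l
    have hc : c ≠ 0 := Finset.prod_ne_zero_iff.2 fun l _ => hH l
    let b : Fin N → B := fun l => y l * ∏ l' ∈ (Finset.univ : Finset (Fin N)).erase l, H l'
    have hb : c • x = ∑ l, b l • t ^ (l : ℕ) := by
      rw [hy, Finset.smul_sum]
      refine Finset.sum_congr rfl fun l _ => ?_
      rw [← Hd_smul_gen hD hN (f_eq_prod hf) (l : ℕ), smul_smul, smul_smul]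
      congr 1
      show c * y l = b l * H l
      simp only [c, b, ← Finset.prod_erase_mul (Finset.univ : Finset (Fin N)) H (Finset.mem_univ l)]
      ring
    obtain ⟨v, hv⟩ := coord_eq hD hN hNB hζ hθj hc hb i
    let O := integralClosure B L
    let J : Ideal O := Ideal.span {algebraMap B O h}
    have hζO : IsIntegral B ζ := (hζ.isIntegral hN).tower_top
    let zO : Fin N → O := fun j => ⟨ev hD hN (hθj j) x, (hD.integral x).map _⟩
    have hzO : ∀ j, zO j ∈ J.radical := fun j => by
      refine ⟨n, Ideal.mem_span_singleton.2 ⟨⟨ev hD hN (hθj j) z, (hD.integral z).map _⟩, Subtype.ext ?_⟩⟩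
      show ev hD hN (hθj j) x ^ n = algebraMap B L h * ev hD hN (hθj j) z
      rw [← map_pow, hz, map_mul, AlgHom.commutes]
    let s : O := algebraMap B O v * ∑ j : Fin N,
      (⟨ζ, hζO⟩ : O) ^ ((N - (i : ℕ)) * j) * zO j
    have hs : s ∈ J.radical :=
      Ideal.mul_mem_left _ _ (Ideal.sum_mem _ fun j _ => Ideal.mul_mem_left _ _ (hzO j))
    have hsval : (s : L) = algebraMap B L (b i) * θ ^ (i : ℕ) / algebraMap B L c := by
      rw [hv]
      simp [s, zO]
    obtain ⟨M, hM⟩ := hs
    obtain ⟨o, ho⟩ := Ideal.mem_span_singleton.1 hM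
    have hbc : algebraMap B L (b i) * θ ^ (i : ℕ) / algebraMap B L c =
        algebraMap B L (y i) * (θ ^ (i : ℕ) / algebraMap B L (H i)) := by
      rw [← mul_div_assoc, div_eq_div_iff (algebraMap_ne_zero hc) (algebraMap_ne_zero (hH i))]
      simp only [b, c, ← Finset.prod_erase_mul (Finset.univ : Finset (Fin N)) H (Finset.mem_univ i), map_mul]
      ring
    have hpow : (θ ^ (i : ℕ) / algebraMap B L (H i)) ^ N = algebraMap B L ((u : B) ^ (i : ℕ)) := by
      rw [div_pow, div_eq_iff (pow_ne_zero _ (algebraMap_ne_zero (hH i))), ← pow_mul, mul_comm (i : ℕ) N,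
        pow_mul, hθ, ← map_pow, ← map_pow, ← map_mul]
      congr 1
      rw [f_eq_prod hf, pow_eq_Hd_Rm (N := N), Rm_one, hr, pow_zero, mul_one]
    have hdvd : h ∣ (y i ^ N * (u : B) ^ (i : ℕ)) ^ M := by
      refine hint _ h hh ?_
      have e1 : algebraMap B L ((y i ^ N * (u : B) ^ (i : ℕ)) ^ M) =
          algebraMap B L h * (algebraMap B L h ^ (N - 1) * (o : L) ^ N) := by
        rw [← mul_assoc, ← pow_succ', Nat.sub_add_cancel hN, ← mul_pow]
        have h2 : ((s : L) ^ M) = algebraMap B L h * (o : L) := by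
          have := congrArg (Subtype.val) ho
          simpa using this
        rw [← h2, ← pow_mul, mul_comm M N, pow_mul, hsval, hbc, mul_pow (algebraMap B L (y i)) _ N, hpow, ← map_pow, ← map_mul, ← map_pow]
      rw [e1, mul_div_cancel_left₀ _ (algebraMap_ne_zero hh)]
      exact (isIntegral_algebraMap.pow _).mul (IsIntegral.pow o.2 _)
    have hy' : h ∣ y i := by
      rw [← Ideal.mem_span_singleton, ← Ideal.Quotient.eq_zero_iff_mem]
      refine hred.eq_zero _ ⟨N * M, ?_⟩
      rw [← map_pow, Ideal.Quotient.eq_zero_iff_mem, Ideal.mem_span_singleton]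
      rw [mul_pow, ← pow_mul] at hdvd
      exact ((u.isUnit.pow _).pow _).dvd_mul_right.1 hdvd
    obtain ⟨y', hy'⟩ := hy'
    rw [Algebra.smul_def, hy', map_mul]
    exact Ideal.mul_mem_right _ _ (Ideal.mul_mem_right _ _ heh)
  · rw [Algebra.smul_def]
    refine Ideal.mul_mem_left _ _ (Ideal.mem_span_singleton.2 (dvd_of_pow_dvd hD.normal hN ?_))
    rw [gen_pow hD hN hf hh, he]
    have hdg : Nat.gcd N α ∣ (i : ℕ) * α % N :=
      (Nat.dvd_mod_iff (Nat.gcd_dvd_left N α)).2 (dvd_mul_of_dvd_right (Nat.gcd_dvd_right N α) _)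
    rw [Units.mul_left_dvd, map_mul, map_pow]
    exact dvd_mul_of_dvd_right (by
      rw [map_pow]
      exact pow_dvd_pow _ (Nat.le_of_dvd (Nat.pos_of_ne_zero hr) hdg)) _

end Groth.Agent.CycCov7

namespace Groth.Agent.CycCov7

open Polynomial

variable {B C : Type u} [CommRing B] [CommRing C] [Algebra B C] [IsDomain B] [IsIntegrallyClosed B]
variable {N : ℕ} {f : B} {t : C} {u : Bˣ} {h : B} {α : ℕ}

/-- The cover is regular along a single regular divisor. -/
theorem isRegularRing_one [IsRegularRing B] [IsRegularRing (B ⧸ Ideal.span {h})]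
    (hD : IsDatum N f t) (hN : 0 < N) (hNB : IsUnit (N : B))
    (hf : f = (u : B) * h ^ α) (hh : h ≠ 0) : IsRegularRing C := by
  classical
  let A' := AdjoinRoot (X ^ N - Polynomial.C f : B[X])
  let K := Localization.Away (algebraMap B C h)
  letI : Algebra A' K := ((algebraMap C K).comp (psi hD).toRingHom).toAlgebra
  haveI hst : IsScalarTower B A' K := IsScalarTower.of_algebraMap_eq fun b => by
    show algebraMap B K b = algebraMap C K (psi hD (algebraMap B A' b))
    rw [AlgHom.commutes, ← IsScalarTower.algebraMap_apply]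
  have hψ : ∀ q, algebraMap A' K q = algebraMap C K (psi hD q) := fun q => rfl
  have hinjK : Function.Injective (algebraMap C K) :=
    IsLocalization.injective K (M := Submonoid.powers (algebraMap B C h))
      (Submonoid.powers_le.2 (mem_nonZeroDivisors_iff_right.2 fun y hy =>
        hD.torsion h hh y (by rwa [Algebra.smul_def, mul_comm])))
  have hred : IsReduced (B ⧸ Ideal.span {h}) := CycCovLib.isReduced_of_isRegularRing _
  have hgenK : ∀ i : Fin N, algebraMap C K (gen hD hN (f_eq_prod hf) (i : ℕ)) *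
      algebraMap B K h ^ ((i : ℕ) * α / N) = algebraMap A' K (AdjoinRoot.root _) ^ (i : ℕ) := fun i => by
    rw [← map_pow (algebraMap A' K), hψ, map_pow (psi hD), psi_root, ← Hd_smul_gen hD hN (f_eq_prod hf) (i : ℕ),
      Algebra.smul_def, map_mul, Hd_one, ← IsScalarTower.algebraMap_apply, map_pow, mul_comm]
  haveI : IsLocalization.Away (algebraMap B A' h) K := by
    refine IsLocalization.Away.mk _ ?_ ?_ ?_
    · rw [← IsScalarTower.algebraMap_apply, IsScalarTower.algebraMap_apply B C K]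
      exact IsLocalization.Away.algebraMap_isUnit _
    · intro z
      obtain ⟨n, x, hx⟩ := IsLocalization.Away.surj (algebraMap B C h) z
      obtain ⟨y, hy⟩ := exists_sum_gen hD hN hNB (f_eq_prod hf) (fun _ => hh) (hred_one hred) x
      refine ⟨n + α, ∑ i : Fin N, algebraMap B A' (y i * h ^ (α - (i : ℕ) * α / N)) * AdjoinRoot.root _ ^ (i : ℕ), ?_⟩
      rw [← IsScalarTower.algebraMap_apply, pow_add, ← mul_assoc,
        IsScalarTower.algebraMap_apply B C K, hx, hy, map_sum, map_sum, Finset.sum_mul,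
        ← IsScalarTower.algebraMap_apply B C K]
      refine Finset.sum_congr rfl fun i _ => ?_
      have hle : (i : ℕ) * α / N ≤ α := Nat.div_le_of_le_mul (Nat.mul_le_mul_right _ i.2.le)
      rw [map_mul (algebraMap A' K), map_pow (algebraMap A' K), ← IsScalarTower.algebraMap_apply B A' K,
        ← hgenK, Algebra.smul_def, map_mul, ← IsScalarTower.algebraMap_apply B C K, map_mul, map_pow]
      have e : algebraMap B K h ^ (α - (i : ℕ) * α / N) * algebraMap B K h ^ ((i : ℕ) * α / N) =
          algebraMap B K h ^ α := by rw [← pow_add, Nat.sub_add_cancel hle]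
      linear_combination (-(algebraMap B K (y i) * algebraMap C K (gen hD hN (f_eq_prod hf) (i : ℕ)))) * e
    · intro a b hab
      obtain ⟨n, hn⟩ := IsLocalization.Away.exists_of_eq (S := K) (algebraMap B C h) hab
      refine ⟨n, psi_injective hD hN ?_⟩
      rw [map_mul, map_mul, map_pow, AlgHom.commutes]
      exact hn
  let A : Subalgebra B K := (IsScalarTower.toAlgHom B C K).range
  have hinv : ∀ i : Fin N, algebraMap C K (gen hD hN (f_eq_prod hf) (i : ℕ)) =
      algebraMap A' K (AdjoinRoot.root _ ^ (i : ℕ)) *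
        IsLocalization.Away.invSelf (S := K) (algebraMap B A' h) ^ ((i : ℕ) * α / N) := fun i => by
    rw [map_pow, ← hgenK, mul_assoc, ← mul_pow, IsScalarTower.algebraMap_apply B A' K,
      IsLocalization.Away.mul_invSelf, one_pow, mul_one]
  have hA : A = Algebra.adjoin B (Set.range fun i : Fin N =>
      algebraMap A' K (AdjoinRoot.root _ ^ (i : ℕ)) *
        IsLocalization.Away.invSelf (S := K) (algebraMap B A' h) ^ ((i : ℕ) * α / N)) := by
    apply le_antisymm
    · rintro _ ⟨x, rfl⟩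
      obtain ⟨y, hy⟩ := exists_sum_gen hD hN hNB (f_eq_prod hf) (fun _ => hh) (hred_one hred) x
      show IsScalarTower.toAlgHom B C K x ∈ _
      rw [hy, map_sum]
      refine sum_mem fun i _ => ?_
      rw [map_smul]
      refine Subalgebra.smul_mem _ ?_ _
      rw [IsScalarTower.coe_toAlgHom', hinv i]
      exact Algebra.subset_adjoin (Set.mem_range_self i)
    · rw [Algebra.adjoin_le_iff]
      rintro _ ⟨i, rfl⟩
      show _ ∈ (IsScalarTower.toAlgHom B C K).range
      exact (AlgHom.mem_range _).2 ⟨gen hD hN (f_eq_prod hf) (i : ℕ), hinv i⟩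
  subst hf
  have hreg := (CycCovLib.main (u := u) (f := h) N α hN hNB hh A hA).2.2
  haveI := hreg
  exact IsRegularRing.of_ringEquiv
    (AlgEquiv.ofInjective (IsScalarTower.toAlgHom B C K) hinjK).symm.toRingEquiv

end Groth.Agent.CycCov7
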