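import Groth.Prelude.Def_LogNCD
import Groth.Agent.GeomReg.Basic
import Groth.Agent.Hensel.EtaleReduced
import Groth.Agent.RegLoc6.Normal
import Mathlib.RingTheory.RegularLocalRing.Polynomial
import Mathlib.RingTheory.LocalProperties.IntegrallyClosed
import Mathlib.AlgebraicGeometry.Morphisms.Etale
import Mathlib.AlgebraicGeometry.AffineSpace
import Mathlib.RingTheory.Flat.TorsionFree

/-!
Rings of functions in a chart of a normal crossing divisor.
-/

universe u

open CategoryTheory AlgebraicGeometry TopologicalSpace Opposite TensorProduct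

namespace Groth.Agent.CycCov7

section Alg

variable {k : Type u} [Field k] {σ : Type u} [Finite σ]

theorem isReduced_quot_prod (S : Finset σ) :
    IsReduced (MvPolynomial σ k ⧸ Ideal.span {∏ i ∈ S, (MvPolynomial.X i : MvPolynomial σ k)}) := by
  classical
  refine ⟨fun x hx => ?_⟩
  obtain ⟨a, rfl⟩ := Ideal.Quotient.mk_surjective x
  obtain ⟨n, hn⟩ := hx
  rw [← map_pow, Ideal.Quotient.eq_zero_iff_mem, Ideal.mem_span_singleton] at hn
  rw [Ideal.Quotient.eq_zero_iff_mem, Ideal.mem_span_singleton]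
  have : ∀ i ∈ S, (MvPolynomial.X i : MvPolynomial σ k) ∣ a := fun i hi =>
    (MvPolynomial.X_prime).dvd_of_dvd_pow ((Finset.dvd_prod_of_mem _ hi).trans hn)
  have key : ∀ T : Finset σ, T ⊆ S → (∏ i ∈ T, (MvPolynomial.X i : MvPolynomial σ k)) ∣ a := by
    intro T
    induction T using Finset.induction_on with
    | empty => intro _; simp
    | @insert i T hi ih =>
      intro hTS
      obtain ⟨b, hb⟩ := ih (fun j hj => hTS (Finset.mem_insert_of_mem hj))
      rw [Finset.prod_insert hi, hb, mul_comm]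
      refine mul_dvd_mul_left _ ?_
      have h1 := this i (hTS (Finset.mem_insert_self i T))
      rw [hb] at h1
      refine ((MvPolynomial.X_prime (i := i)).dvd_or_dvd h1).resolve_left fun h2 => ?_
      obtain ⟨j, hj, hij⟩ := (MvPolynomial.X_prime (i := i)).exists_mem_finset_dvd h2
      exact hi (MvPolynomial.X_dvd_X.1 hij ▸ hj)
  exact key S subset_rfl

theorem isRegularRing_quot_X (i : σ) :
    IsRegularRing (MvPolynomial σ k ⧸ Ideal.span {(MvPolynomial.X i : MvPolynomial σ k)}) := by
  classical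
  let τ := {j : σ // j ≠ i}
  let toτ : MvPolynomial σ k →ₐ[k] MvPolynomial τ k :=
    MvPolynomial.aeval fun j => if h : j = i then 0 else MvPolynomial.X ⟨j, h⟩
  let fwd : (MvPolynomial σ k ⧸ Ideal.span {(MvPolynomial.X i : MvPolynomial σ k)}) →ₐ[k] MvPolynomial τ k :=
    Ideal.Quotient.liftₐ _ toτ fun a ha => by
      obtain ⟨b, rfl⟩ := Ideal.mem_span_singleton.1 ha
      simp [toτ]
  let bwd : MvPolynomial τ k →ₐ[k] (MvPolynomial σ k ⧸ Ideal.span {(MvPolynomial.X i : MvPolynomial σ k)}) :=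
    (Ideal.Quotient.mkₐ k _).comp (MvPolynomial.rename (Subtype.val : τ → σ))
  have h2 : fwd.comp bwd = AlgHom.id k _ := by
    refine MvPolynomial.algHom_ext fun j => ?_
    show toτ (MvPolynomial.rename _ (MvPolynomial.X j)) = MvPolynomial.X j
    simp [toτ, j.2]
  have h1 : bwd.comp fwd = AlgHom.id k _ := by
    refine Ideal.Quotient.algHom_ext k (MvPolynomial.algHom_ext fun j => ?_)
    show bwd (toτ (MvPolynomial.X j)) = Ideal.Quotient.mk _ (MvPolynomial.X j)
    by_cases h : j = i
    · subst h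
      simp [toτ, (Ideal.Quotient.eq_zero_iff_mem.2 (Ideal.mem_span_singleton_self _))]
    · simp [toτ, h, bwd]
  exact IsRegularRing.of_ringEquiv (AlgEquiv.ofAlgHom bwd fwd h1 h2).toRingEquiv

variable {B : Type u} [CommRing B] (φ : MvPolynomial σ k →+* B) (hφ : φ.Etale)

omit [Finite σ] in
include hφ in
theorem exists_etale_quot (a : MvPolynomial σ k) :
    ∃ (T : Type u) (_ : CommRing T) (_ : Algebra (MvPolynomial σ k ⧸ Ideal.span {a}) T),
      Algebra.Etale (MvPolynomial σ k ⧸ Ideal.span {a}) T ∧ Nonempty (T ≃+* B ⧸ Ideal.span {φ a}) := by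
  letI := φ.toAlgebra
  haveI : Algebra.Etale (MvPolynomial σ k) B := hφ
  refine ⟨(MvPolynomial σ k ⧸ Ideal.span {a}) ⊗[MvPolynomial σ k] B, inferInstance, inferInstance,
    inferInstance, ⟨?_⟩⟩
  refine ((Algebra.TensorProduct.comm _ _ _).toRingEquiv.trans
    (Algebra.TensorProduct.quotIdealMapEquivTensorQuot B (Ideal.span {a})).symm.toRingEquiv).trans
      (Ideal.quotEquivOfEq ?_)
  rw [Ideal.map_span, Set.image_singleton]
  rfl

include hφ in
theorem isRegularRing_chart : IsRegularRing B := by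
  letI := φ.toAlgebra
  haveI : Algebra.Etale (MvPolynomial σ k) B := hφ
  exact GeomReg.isRegularRing_of_smooth (MvPolynomial σ k) B

include hφ in
theorem isRegularRing_quot (i : σ) : IsRegularRing (B ⧸ Ideal.span {φ (MvPolynomial.X i)}) := by
  obtain ⟨T, _, _, _, ⟨e⟩⟩ := exists_etale_quot φ hφ (MvPolynomial.X i)
  haveI := isRegularRing_quot_X (k := k) i
  haveI : IsRegularRing T := GeomReg.isRegularRing_of_smooth
    (MvPolynomial σ k ⧸ Ideal.span {(MvPolynomial.X i : MvPolynomial σ k)}) T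
  exact IsRegularRing.of_ringEquiv e

include hφ in
theorem isReduced_quot (S : Finset σ) :
    IsReduced (B ⧸ Ideal.span {∏ i ∈ S, φ (MvPolynomial.X i)}) := by
  obtain ⟨T, _, _, _, ⟨e⟩⟩ := exists_etale_quot φ hφ (∏ i ∈ S, MvPolynomial.X i)
  haveI := isReduced_quot_prod (k := k) S
  haveI := Hensel.isReduced_of_etale (MvPolynomial σ k ⧸ Ideal.span {∏ i ∈ S, (MvPolynomial.X i : MvPolynomial σ k)}) T
  rw [← map_prod]
  exact isReduced_of_injective e.symm e.symm.injective

include hφ in
theorem chart_ne_zero [Nontrivial B] (i : σ) : φ (MvPolynomial.X i) ≠ 0 := by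
  intro h0
  letI := φ.toAlgebra
  haveI : Algebra.Etale (MvPolynomial σ k) B := hφ
  haveI : Module.Flat (MvPolynomial σ k) B := inferInstance
  have hreg := Module.Flat.isSMulRegular_of_nonZeroDivisors (M := B)
    (mem_nonZeroDivisors_of_ne_zero (MvPolynomial.X_ne_zero (R := k) i))
  refine one_ne_zero (hreg (a₁ := (1 : B)) (a₂ := 0) ?_)
  show (MvPolynomial.X i : MvPolynomial σ k) • (1 : B) = (MvPolynomial.X i : MvPolynomial σ k) • (0 : B)
  rw [smul_zero, Algebra.smul_def, mul_one]
  exact h0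

end Alg

section Geom

variable {k : Type u} [Field k] {X : Scheme.{u}}

theorem sectOn_res {W : X.Opens} {U : X.Opens} (h : U ≤ W) (s : Γ(W, ⊤)) :
    U.topIso.hom ((X.homOfLE h).appTop s) = LogNCD.sectOn W h s := by
  rw [LogNCD.sectOn_apply]
  simp [Scheme.Hom.appTop, Scheme.homOfLE_app, Scheme.Opens.topIso]
  erw [← CommRingCat.comp_apply, ← X.presheaf.map_comp, ← CommRingCat.comp_apply, ← X.presheaf.map_comp]
  rfl

/-- The coordinate ring map of an etale chart over an affine open. -/
theorem exists_chart (f : X ⟶ Spec (CommRingCat.of k)) {n : Type u} [Finite n] (W : X.Opens)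
    (v : n → Γ(W, ⊤)) (hv : Etale (AffineSpace.homOfVector (W.ι ≫ f) v))
    (U : X.affineOpens) (h : U.1 ≤ W) :
    ∃ φ : MvPolynomial n k →+* Γ(X, U.1), φ.Etale ∧
      ∀ i, φ (MvPolynomial.X i) = LogNCD.sectOn W h (v i) := by
  let e := AffineSpace.SpecIso n (CommRingCat.of k)
  let g : (U.1 : Scheme.{u}) ⟶ Spec (CommRingCat.of (MvPolynomial n k)) :=
    X.homOfLE h ≫ AffineSpace.homOfVector (W.ι ≫ f) v ≫ e.hom
  haveI : IsAffine (U.1 : Scheme.{u}) := U.2
  have hg : Etale g := by
    haveI := hv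
    infer_instance
  have hr : g.appTop.hom.Etale := (HasRingHomProperty.iff_of_isAffine (P := @Etale)).1 hg
  let φ : MvPolynomial n k →+* Γ(X, U.1) :=
    (((U.1.topIso.hom.hom.comp g.appTop.hom).comp (Scheme.ΓSpecIso (CommRingCat.of (MvPolynomial n k))).inv.hom))
  refine ⟨φ, ?_, fun i => ?_⟩
  · have h1 := RingHom.Etale.respectsIso.1 _ U.1.topIso.commRingCatIsoToRingEquiv hr
    exact RingHom.Etale.respectsIso.2 _ (Scheme.ΓSpecIso (CommRingCat.of (MvPolynomial n k))).symm.commRingCatIsoToRingEquiv h1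
  · show U.1.topIso.hom (g.appTop ((Scheme.ΓSpecIso _).inv (MvPolynomial.X i))) = _
    rw [← sectOn_res]
    congr 1
    simp only [g, Scheme.Hom.comp_appTop, CommRingCat.comp_apply]
    congr 1
    rw [show (Scheme.ΓSpecIso (CommRingCat.of (MvPolynomial n k))).inv (MvPolynomial.X i) =
      e.inv.appTop (AffineSpace.coord _ i) from (AffineSpace.SpecIso_inv_appTop_coord (CommRingCat.of k) i).symm]
    have : e.hom.appTop (e.inv.appTop (AffineSpace.coord _ i)) = AffineSpace.coord _ i := by
      rw [← CommRingCat.comp_apply, ← Scheme.Hom.comp_appTop, Iso.hom_inv_id, Scheme.Hom.id_appTop]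
      rfl
    refine (congrArg _ this).trans ?_
    exact AffineSpace.homOfVector_appTop_coord _ _ _

end Geom

end Groth.Agent.CycCov7
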