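import Groth.Prelude.Def_Pi1
import Groth.Agent.CycCov7.Frames
import Groth.Agent.CycCov7.Alg
import Groth.Agent.CycCov7.NCD
import Mathlib.AlgebraicGeometry.Morphisms.Finite
import Mathlib.AlgebraicGeometry.Morphisms.Smooth

/-!
The normalised cyclic cover over an affine open.
-/

universe u

open CategoryTheory AlgebraicGeometry TopologicalSpace Opposite

namespace Groth.Agent.CycCov7

variable {k : Type u} [Field k] {X Y : Scheme.{u}} (f : X ⟶ Spec (CommRingCat.of k)) [Smooth f]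

include f in
theorem isRegularRing_Γ (U : X.affineOpens) : IsRegularRing Γ(X, U.1) := by
  have e : U.1 ≤ f ⁻¹ᵁ (⊤ : (Spec (CommRingCat.of k)).Opens) := le_top
  have h : (f.appLE ⊤ U.1 e).hom.Smooth :=
    HasRingHomProperty.appLE @Smooth f inferInstance ⟨⊤, isAffineOpen_top _⟩ U e
  letI := (f.appLE ⊤ U.1 e).hom.toAlgebra
  haveI : Algebra.Smooth Γ(Spec (CommRingCat.of k), ⊤) Γ(X, U.1) := h
  haveI : IsRegularRing Γ(Spec (CommRingCat.of k), ⊤) :=
    IsRegularRing.of_ringEquiv (R := k) (Scheme.ΓSpecIso (CommRingCat.of k)).symm.commRingCatIsoToRingEquiv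
  exact GeomReg.isRegularRing_of_smooth Γ(Spec (CommRingCat.of k), ⊤) Γ(X, U.1)

include f in
theorem isIntegrallyClosed_Γ [IsIntegral X] (U : X.affineOpens) [Nonempty U.1] :
    IsIntegrallyClosed Γ(X, U.1) := by
  haveI := isRegularRing_Γ f U
  refine IsIntegrallyClosed.of_localization_maximal fun p _ _ => ?_
  haveI : IsRegularLocalRing (Localization.AtPrime p) := IsRegularRing.isRegularLocalRing_localization p
  exact RegLoc6.isIntegrallyClosed_of_isRegularLocalRing _

include f in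
theorem isUnit_natCast {N : ℕ} (hNk : (N : k) ≠ 0) (U : X.Opens) : IsUnit (N : Γ(X, U)) := by
  let ρ : k →+* Γ(X, U) := (f.appLE ⊤ U le_top).hom.comp (Scheme.ΓSpecIso (CommRingCat.of k)).inv.hom
  have h := (isUnit_iff_ne_zero.2 hNk).map ρ
  rwa [map_natCast] at h

theorem isRegularRing_of_subsingleton (A : Type u) [CommRing A] [Subsingleton A] : IsRegularRing A := by
  haveI : IsNoetherianRing A := inferInstance
  rw [isRegularRing_iff]
  intro p hp
  exact absurd (Subsingleton.elim _ _) hp.ne_top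

theorem isNormal_Γ (hY : Pi1.IsNormalScheme Y) {V : Y.Opens} (hV : IsAffineOpen V)
    (m : Ideal Γ(Y, V)) [m.IsPrime] :
    IsDomain (Localization.AtPrime m) ∧ IsIntegrallyClosed (Localization.AtPrime m) := by
  let y : PrimeSpectrum Γ(Y, V) := ⟨m, inferInstance⟩
  have hy : hV.fromSpec y ∈ V := by
    have : hV.fromSpec y ∈ hV.fromSpec.opensRange := ⟨y, rfl⟩
    rwa [hV.opensRange_fromSpec] at this
  letI := TopCat.Presheaf.algebra_section_stalk Y.presheaf (⟨hV.fromSpec y, hy⟩ : V)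
  haveI : IsLocalization.AtPrime (Y.presheaf.stalk (hV.fromSpec y)) y.asIdeal := hV.isLocalization_stalk' y hy
  haveI : IsLocalization.AtPrime (Y.presheaf.stalk (hV.fromSpec y)) m := ‹_›
  obtain ⟨h1, h2⟩ := hY (hV.fromSpec y)
  let e : Y.presheaf.stalk (hV.fromSpec y) ≃ₐ[Γ(Y, V)] Localization.AtPrime m :=
    IsLocalization.algEquiv m.primeCompl _ _
  exact ⟨e.symm.toRingEquiv.toMulEquiv.isDomain, IsIntegrallyClosed.of_equiv e.toRingEquiv⟩

theorem eq_zero_of_res_dense (hY : Pi1.IsNormalScheme Y) {V : Y.Opens} (hV : IsAffineOpen V) {W : Y.Opens}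
    (hW : Dense (W : Set Y)) {x : Γ(Y, V)}
    (hx : Y.presheaf.map (homOfLE (inf_le_left : V ⊓ W ≤ V)).op x = 0) : x = 0 := by
  have hb : Y.basicOpen x = ⊥ := by
    have h1 : Y.basicOpen (Y.presheaf.map (homOfLE (inf_le_left : V ⊓ W ≤ V)).op x) = V ⊓ W ⊓ Y.basicOpen x :=
      Scheme.basicOpen_res _ _ _
    rw [hx, Scheme.basicOpen_zero] at h1
    refine Opens.ext (Set.eq_empty_iff_forall_notMem.2 fun y hy => ?_)
    obtain ⟨z, hz1, hz2⟩ := hW.inter_open_nonempty _ (Y.basicOpen x).2 ⟨y, hy⟩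
    have : z ∈ (⊥ : Y.Opens) := h1.symm ▸ ⟨⟨Scheme.basicOpen_le _ x hz1, hz2⟩, hz1⟩
    exact this
  haveI : IsReduced Γ(Y, V) := isReduced_ofLocalizationMaximal _ fun m _ => by
    obtain ⟨_, _⟩ := isNormal_Γ hY hV m
    infer_instance
  have hnil : IsNilpotent x := by
    rw [nilpotent_iff_mem_prime]
    intro J hJ
    by_contra hxJ
    let y : PrimeSpectrum Γ(Y, V) := ⟨J, hJ⟩
    have hmem : y ∈ PrimeSpectrum.basicOpen x := hxJ
    rw [← hV.fromSpec_preimage_basicOpen, hb] at hmem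
    exact hmem
  exact hnil.eq_zero

variable {L : X.Modules} {N : ℕ} {s : Coh.structureModule X ⟶ CohB1.tensorPow L N} {π : Y ⟶ X}

theorem frame_res {U V : X.Opens} (h : V ≤ U) {e : Γ(L, U)} (he : InvX.IsFrame e) :
    CycCov.IsGen L V (L.val.map (homOfLE h).op (show L.val.obj (op U) from e)) :=
  isGen_of_isFrame (he.res h)

theorem val_res {U V : X.Opens} (h : V ≤ U) (e : L.val.obj (op U)) {g : Γ(X, U)}
    (hg : SecTwist.val s U = g • CycCov.lpow L U e N) :
    SecTwist.val s V = X.presheaf.map (homOfLE h).op g •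
      CycCov.lpow L V (L.val.map (homOfLE h).op e) N := by
  rw [← SecTwist.map_val s (homOfLE h), hg]
  refine (Scheme.Modules.map_smul (CohB1.tensorPow L N) (homOfLE h) g _).trans ?_
  exact congrArg _ (res_lpow h e N)

theorem sum_coords_eq_zero {B : Type u} [CommRing B] [IsDomain B] {N : ℕ} (hN : 0 < N) (a : B)
    {b : Fin N → B}
    (hb : ∑ i, algebraMap B (AdjoinRoot (Polynomial.X ^ N - Polynomial.C a)) (b i) *
      AdjoinRoot.root _ ^ (i : ℕ) = 0) : b = 0 := by
  let pb := AdjoinRoot.powerBasis' (Polynomial.monic_X_pow_sub_C a hN.ne')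
  have hdim : pb.dim = N := Polynomial.natDegree_X_pow_sub_C
  have hli := Fintype.linearIndependent_iff.1 pb.basis.linearIndependent (fun i => b (Fin.cast hdim i)) (by
    refine Eq.trans ?_ hb
    refine Fintype.sum_equiv (finCongr hdim) _ _ fun i => ?_
    simp [PowerBasis.coe_basis, Algebra.smul_def, pb, AdjoinRoot.powerBasis'_gen])
  funext i
  simpa using hli (Fin.cast hdim.symm i)

variable [IsIntegral X]

include f in
/-- The sections over an affine open form the normalisation. -/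
theorem isDatum (R : CycCov.Root L N s π) (hR : CycCov.IsCover R) (hN : 0 < N) (U : X.affineOpens) [Nonempty U.1]
    {e : Γ(L, U.1)} (he : InvX.IsFrame e) {g : Γ(X, U.1)}
    (hg : SecTwist.val s U.1 = g • CycCov.lpow L U.1 (show L.val.obj (op U.1) from e) N) :
    letI := (π.app U.1).hom.toAlgebra
    IsDatum (C := Γ(Y, π ⁻¹ᵁ U.1)) N g (R.t U _ (isGen_of_isFrame he)) := by
  letI := (π.app U.1).hom.toAlgebra
  obtain ⟨hfin, hY, W, hWd, hWd', hchart⟩ := hR
  haveI := hfin
  have hV : IsAffineOpen (π ⁻¹ᵁ U.1) := U.2.preimage π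
  let t := R.t U _ (isGen_of_isFrame he)
  have halg : ∀ b, algebraMap Γ(X, U.1) Γ(Y, π ⁻¹ᵁ U.1) b = π.app U.1 b := fun b => rfl
  -- charts over smaller affine opens
  have key : ∀ (U' : X.affineOpens) (h : U'.1 ≤ U.1), U'.1 ≤ W →
      ∃ χ : AdjoinRoot (Polynomial.X ^ N - Polynomial.C (X.presheaf.map (homOfLE h).op g)) →+* Γ(Y, π ⁻¹ᵁ U'.1),
        Function.Bijective χ ∧
        (∀ b : Γ(X, U.1), χ (algebraMap Γ(X, U'.1) _ (X.presheaf.map (homOfLE h).op b)) =
          Y.presheaf.map (homOfLE (π.preimage_mono h)).op (π.app U.1 b)) ∧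
        χ (AdjoinRoot.root _) = Y.presheaf.map (homOfLE (π.preimage_mono h)).op t := by
    intro U' h hW'
    have hb := hchart U' hW' _ (frame_res h he) _ (val_res h _ hg)
    refine ⟨_, hb, fun b => ?_, ?_⟩
    · rw [AdjoinRoot.algebraMap_eq, CycCov.chart, AdjoinRoot.lift_of]
      exact ConcreteCategory.congr_hom (π.naturality (homOfLE h).op) b
    · rw [CycCov.chart, AdjoinRoot.lift_root]
      exact (R.t_res U U' h _ _ _).symm
  have hinjU : ∀ (U' : X.affineOpens) (h : U'.1 ≤ U.1), Nonempty U'.1 →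
      Function.Injective (X.presheaf.map (homOfLE h).op) := fun U' h hne => @map_injective_of_isIntegral X inferInstance _ _ (homOfLE h) hne
  obtain ⟨x₀, hxU⟩ : ∃ x : X, x ∈ U.1 := ⟨_, (Classical.arbitrary U.1).2⟩
  obtain ⟨x₁, hx₁U, hx₁W⟩ := hWd.inter_open_nonempty _ U.1.2 ⟨x₀, hxU⟩
  obtain ⟨a, haW, hx₁a⟩ := U.2.exists_basicOpen_le (V := U.1 ⊓ W) ⟨x₁, hx₁U, hx₁W⟩ hx₁U
  have haU : X.basicOpen a ≤ U.1 := X.basicOpen_le a
  let U₁ : X.affineOpens := ⟨X.basicOpen a, U.2.basicOpen a⟩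
  haveI hne₁ : Nonempty U₁.1 := ⟨⟨x₁, hx₁a⟩⟩
  have ha0 : a ≠ 0 := by
    rintro rfl
    rw [Scheme.basicOpen_zero] at hx₁a
    exact hx₁a
  obtain ⟨χ₁, hχ₁, hχ₁b, hχ₁t⟩ := key U₁ haU (haW.trans inf_le_right)
  refine ⟨R.pow_eq U _ _ g hg, fun b hb => ?_, fun c hc x hx => ?_, fun x => ?_, fun m _ => isNormal_Γ hY hV m,
    fun x => ?_⟩
  · have h1 := congrArg (Y.presheaf.map (homOfLE (π.preimage_mono haU)).op) hb
    rw [map_zero, map_sum] at h1
    have h2 : ∑ i : Fin N, algebraMap Γ(X, U₁.1) (AdjoinRoot (Polynomial.X ^ N - Polynomial.C (X.presheaf.map (homOfLE haU).op g)))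
        (X.presheaf.map (homOfLE haU).op (b i)) * AdjoinRoot.root _ ^ (i : ℕ) = 0 := by
      refine hχ₁.1 ?_
      rw [map_zero, map_sum, ← h1]
      refine Finset.sum_congr rfl fun i _ => ?_
      rw [map_mul, map_pow, hχ₁b, hχ₁t, Algebra.smul_def, halg, map_mul, map_pow]
    have h3 := sum_coords_eq_zero hN _ h2
    funext i
    exact hinjU U₁ haU hne₁ ((congrFun h3 i).trans (map_zero _).symm)
  · refine eq_zero_of_res_dense hY hV hWd' ?_
    have hcov : ∀ y : ↥(π ⁻¹ᵁ U.1 ⊓ π ⁻¹ᵁ W), ∃ a' : Γ(X, U.1),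
        X.basicOpen a' ≤ U.1 ⊓ W ∧ π.base y.1 ∈ X.basicOpen a' := fun y =>
      U.2.exists_basicOpen_le (V := U.1 ⊓ W) ⟨π.base y.1, y.2.1, y.2.2⟩ y.2.1
    choose aY haY1 haY2 using hcov
    refine TopCat.Sheaf.eq_of_locally_eq' Y.sheaf
      (fun y : ↥(π ⁻¹ᵁ U.1 ⊓ π ⁻¹ᵁ W) => π ⁻¹ᵁ X.basicOpen (aY y))
      (π ⁻¹ᵁ U.1 ⊓ π ⁻¹ᵁ W) (fun y => homOfLE ?_) ?_ _ _ fun y => ?_
    · exact fun z hz => ⟨(haY1 y hz).1, (haY1 y hz).2⟩
    · intro z hz
      exact Opens.mem_iSup.2 ⟨⟨z, hz⟩, haY2 ⟨z, hz⟩⟩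
    · let a' := aY y
      have h' : X.basicOpen a' ≤ U.1 := X.basicOpen_le a'
      let U₂ : X.affineOpens := ⟨X.basicOpen a', U.2.basicOpen a'⟩
      haveI : Nonempty U₂.1 := ⟨⟨π.base y.1, haY2 y⟩⟩
      obtain ⟨χ, hχ, hχb, -⟩ := key U₂ h' ((haY1 y).trans inf_le_right)
      show Y.presheaf.map _ (Y.presheaf.map _ x) = Y.presheaf.map _ 0
      rw [map_zero]
      rw [← CommRingCat.comp_apply, ← Functor.map_comp]
      have hc' : X.presheaf.map (homOfLE h').op c ≠ 0 := fun h0 =>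
        hc (hinjU U₂ h' inferInstance (h0.trans (map_zero _).symm))
      obtain ⟨q, hq⟩ := hχ.2 (Y.presheaf.map (homOfLE (π.preimage_mono h')).op x)
      have h1 := congrArg (Y.presheaf.map (homOfLE (π.preimage_mono h')).op) hx
      rw [Algebra.smul_def, halg, map_mul, map_zero, ← hχb, ← hq, ← map_mul] at h1
      have h2 : algebraMap Γ(X, U₂.1) _ (X.presheaf.map (homOfLE h').op c) * q = 0 :=
        hχ.1 (h1.trans (map_zero χ).symm)
      rw [← Algebra.smul_def] at h2
      haveI : Module.Free Γ(X, U₂.1) (AdjoinRoot (Polynomial.X ^ N - Polynomial.C (X.presheaf.map (homOfLE h').op g))) :=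
        (Polynomial.monic_X_pow_sub_C _ hN.ne').free_adjoinRoot
      rcases smul_eq_zero.1 h2 with h3 | h3
      · exact absurd h3 hc'
      · rw [h3, map_zero] at hq
        exact hq.symm
  · haveI := hV.isLocalization_basicOpen (π.app U.1 a)
    obtain ⟨q, hq⟩ := hχ₁.2 (Y.presheaf.map (homOfLE (π.preimage_mono haU)).op x)
    haveI := U.2.isLocalization_basicOpen a
    obtain ⟨b₁, hb₁⟩ := exists_coords hN q
    choose n b hnb using fun i => IsLocalization.Away.surj a (b₁ i)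
    let n₀ := Finset.univ.sup n
    let b₂ : Fin N → Γ(X, U.1) := fun i => a ^ (n₀ - n i) * b i
    have hb₂ : ∀ i, X.presheaf.map (homOfLE haU).op (a ^ n₀) * b₁ i = X.presheaf.map (homOfLE haU).op (b₂ i) := fun i => by
      simp only [b₂, map_mul, map_pow]
      rw [show X.presheaf.map (homOfLE haU).op (b i) = b₁ i * X.presheaf.map (homOfLE haU).op a ^ n i from (hnb i).symm]
      have e : X.presheaf.map (homOfLE haU).op a ^ (n₀ - n i) * X.presheaf.map (homOfLE haU).op a ^ n i =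
          X.presheaf.map (homOfLE haU).op a ^ n₀ := by
        rw [← pow_add, Nat.sub_add_cancel (Finset.le_sup (f := n) (Finset.mem_univ i))]
      linear_combination (-(b₁ i)) * e
    have heq : Y.presheaf.map (homOfLE (π.preimage_mono haU)).op (π.app U.1 (a ^ n₀) * x) =
        Y.presheaf.map (homOfLE (π.preimage_mono haU)).op (∑ i, π.app U.1 (b₂ i) * t ^ (i : ℕ)) := by
      rw [map_mul, ← hχ₁b, ← hq, ← map_mul, hb₁, Finset.mul_sum, map_sum, map_sum]
      refine Finset.sum_congr rfl fun i _ => ?_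
      rw [Algebra.smul_def, ← mul_assoc, ← map_mul, hb₂, map_mul, map_pow, hχ₁t, hχ₁b]
      simp only [map_mul, map_pow]
    have heq' : algebraMap Γ(Y, π ⁻¹ᵁ U.1) Γ(Y, Y.basicOpen (π.app U.1 a)) (π.app U.1 (a ^ n₀) * x) =
        algebraMap Γ(Y, π ⁻¹ᵁ U.1) Γ(Y, Y.basicOpen (π.app U.1 a)) (∑ i, π.app U.1 (b₂ i) * t ^ (i : ℕ)) := by
      have hle : Y.basicOpen (π.app U.1 a) ≤ π ⁻¹ᵁ X.basicOpen a := (Scheme.preimage_basicOpen π a).ge
      have h4 := congrArg (Y.presheaf.map (homOfLE hle).op) heq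
      rw [← CommRingCat.comp_apply, ← CommRingCat.comp_apply, ← Functor.map_comp] at h4
      exact h4
    obtain ⟨m, hm⟩ := IsLocalization.Away.exists_of_eq (π.app U.1 a) heq'
    refine ⟨a ^ (m + n₀), pow_ne_zero _ ha0, fun i => a ^ m * b₂ i, ?_⟩
    simp only [Algebra.smul_def, halg]
    rw [pow_add, map_mul, mul_assoc, map_pow (π.app U.1).hom a m, hm, Finset.mul_sum]
    refine Finset.sum_congr rfl fun i _ => ?_
    simp only [map_mul, map_pow, mul_assoc, t, b₂]
  · exact RingHom.IsIntegral.of_finite (IsFinite.finite_app π U.1 U.2) x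

include f in
/-- Local decomposition of the equation along a normal crossing divisor. -/
theorem exists_decomp {r : ℕ} (D : Fin r → X.IdealSheafData) (hD : LogNCD.IsNCD D f) (x : X)
    (V : X.Opens) (hx : x ∈ V) (hL : PicF.IsInvertible L) :
    ∃ (U : X.affineOpens) (_ : x ∈ U.1) (_ : U.1 ≤ V) (e : Γ(L, U.1)) (h : Fin r → Γ(X, U.1)),
      InvX.IsFrame e ∧ (∀ j, (D j).ideal U = Ideal.span {h j}) ∧ (∀ j, h j ≠ 0) ∧
      (∀ j, x ∉ (D j).support → h j = 1) ∧
      (∀ j, IsRegularRing (Γ(X, U.1) ⧸ Ideal.span {h j})) ∧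
      (∀ S : Finset (Fin r), IsReduced (Γ(X, U.1) ⧸ Ideal.span {∏ j ∈ S, h j})) := by
  classical
  rcases isEmpty_or_nonempty (LogNCD.Through D x) with hempty | hne
  · let V' : X.Opens := V ⊓ ⟨⋂ j, ((D j).support : Set X)ᶜ, isOpen_iInter_of_finite fun j => (D j).support.2.isOpen_compl⟩
    have hxV' : x ∈ V' := ⟨hx, Set.mem_iInter.2 fun j hj => hempty.elim ⟨j, hj⟩⟩
    obtain ⟨U, hxU, hUV, e, he⟩ := exists_affine_frame hL V' hxV'
    haveI : Nonempty U.1 := ⟨⟨x, hxU⟩⟩
    have htop : ∀ j, (D j).ideal U = ⊤ := fun j => by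
      by_contra hne
      obtain ⟨m, hm, hle⟩ := Ideal.exists_le_maximal _ hne
      let y : PrimeSpectrum Γ(X, U.1) := ⟨m, hm.isPrime⟩
      have hy : U.2.fromSpec y ∈ X.zeroLocus (U := U.1) ((D j).ideal U : Set Γ(X, U.1)) ∩ U.1 := by
        rw [← U.2.fromSpec_image_zeroLocus]
        exact ⟨y, hle, rfl⟩
      rw [← Scheme.IdealSheafData.coe_support_inter] at hy
      exact Set.mem_iInter.1 (hUV hy.2).2 j hy.1
    haveI hsub : Subsingleton (Γ(X, U.1) ⧸ Ideal.span {(1 : Γ(X, U.1))}) :=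
      Ideal.Quotient.subsingleton_iff.2 (Ideal.span_singleton_eq_top.2 isUnit_one)
    refine ⟨U, hxU, hUV.trans inf_le_left, e, fun _ => 1, he, fun j => (htop j).trans
      (Ideal.span_singleton_eq_top.2 isUnit_one).symm, fun j => one_ne_zero, fun j _ => rfl, fun j => ?_, fun S => ?_⟩
    · haveI := hsub
      exact isRegularRing_of_subsingleton _
    · rw [Finset.prod_const_one]
      haveI := hsub
      exact ⟨fun x _ => Subsingleton.elim _ _⟩
  · obtain ⟨W, hxW, n, v, ε, hε, het, hin, hout⟩ := hD x hne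
    obtain ⟨U, hxU, hUV, e, he⟩ := exists_affine_frame hL (V ⊓ W) ⟨hx, hxW⟩
    haveI : Nonempty U.1 := ⟨⟨x, hxU⟩⟩
    have hUW : U.1 ≤ W := hUV.trans inf_le_right
    obtain ⟨φ, hφ, hφX⟩ := exists_chart f W v het U hUW
    let h : Fin r → Γ(X, U.1) := fun j =>
      if hj : x ∈ (D j).support then φ (MvPolynomial.X (ULift.up (ε ⟨j, hj⟩))) else 1
    have hh : ∀ j, (D j).ideal U = Ideal.span {h j} := fun j => by
      by_cases hj : x ∈ (D j).support
      · simp only [h, dif_pos hj, hφX]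
        exact hin ⟨j, hj⟩ U hUW
      · simp only [h, dif_neg hj]
        rw [hout j hj U hUW, Ideal.span_singleton_eq_top.2 isUnit_one]
    have hpos : ∀ (j) (hj : x ∈ (D j).support), h j = φ (MvPolynomial.X (ULift.up (ε ⟨j, hj⟩))) :=
      fun j hj => dif_pos hj
    have hneg : ∀ j, x ∉ (D j).support → h j = 1 := fun j hj => dif_neg hj
    refine ⟨U, hxU, hUV.trans inf_le_left, e, h, he, hh, fun j => ?_, hneg, fun j => ?_, fun S => ?_⟩
    · by_cases hj : x ∈ (D j).support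
      · rw [hpos j hj]; exact chart_ne_zero φ hφ _
      · rw [hneg j hj]; exact one_ne_zero
    · by_cases hj : x ∈ (D j).support
      · have e1 : Ideal.span {φ (MvPolynomial.X (ULift.up (ε ⟨j, hj⟩)))} = Ideal.span {h j} :=
          congrArg (fun a => Ideal.span {a}) (hpos j hj).symm
        haveI := isRegularRing_quot φ hφ (ULift.up (ε ⟨j, hj⟩))
        exact IsRegularRing.of_ringEquiv (Ideal.quotEquivOfEq e1)
      · haveI : Subsingleton (Γ(X, U.1) ⧸ Ideal.span {h j}) :=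
          Ideal.Quotient.subsingleton_iff.2 (Ideal.span_singleton_eq_top.2 (by rw [hneg j hj]; exact isUnit_one))
        exact isRegularRing_of_subsingleton _
    · let T : Finset (ULift.{u} (Fin n)) :=
        (S.subtype fun j => x ∈ (D j).support).map
          ⟨fun j => ULift.up (ε ⟨j.1, j.2⟩), fun a b hab => by
            have := hε (ULift.up_injective hab)
            exact Subtype.ext (congrArg Subtype.val this :)⟩
      have hST : ∏ j ∈ S, h j = ∏ i ∈ T, φ (MvPolynomial.X i) := by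
        rw [Finset.prod_map, ← Finset.prod_filter_mul_prod_filter_not S (fun j => x ∈ (D j).support)]
        have h2 : ∏ j ∈ S.filter (fun j => ¬ x ∈ (D j).support), h j = 1 :=
          Finset.prod_eq_one fun j hj => dif_neg (Finset.mem_filter.1 hj).2
        rw [h2, mul_one, ← Finset.prod_subtype_eq_prod_filter]
        refine Finset.prod_congr rfl fun j _ => ?_
        exact dif_pos j.2
      have e1 : Ideal.span {∏ j ∈ S, h j} = Ideal.span {∏ i ∈ T, φ (MvPolynomial.X i)} :=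
        congrArg (fun a => Ideal.span {a}) hST
      haveI := isReduced_quot φ hφ T
      exact isReduced_of_injective (Ideal.quotEquivOfEq e1) (RingEquiv.injective _)

end Groth.Agent.CycCov7
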