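import Groth.Prelude.Def_CycCov
import Groth.Agent.CycCov7.Scheme
import Groth.Agent.CycCov7.One
import Groth.Agent.SmoothVarLib.Basic
import Mathlib.AlgebraicGeometry.Morphisms.Etale
import Mathlib.RingTheory.Etale.StandardEtale

/-!
Local structure of a normalised cyclic cover.
-/

universe u

open CategoryTheory AlgebraicGeometry TopologicalSpace Opposite

namespace Groth.Agent.CycCov7

variable {X Y : Scheme.{u}}

theorem divIdeal_ideal {r : ℕ} (D : Fin r → X.IdealSheafData) (α : Fin r → ℕ) (U : X.affineOpens) :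
    (CycCov.divIdeal D α).ideal U = ∏ j, (D j).ideal U ^ α j := by
  classical
  have key : ∀ S : Finset (Fin r), (∏ j ∈ S, D j ^ α j : X.IdealSheafData).ideal U = ∏ j ∈ S, (D j).ideal U ^ α j := by
    intro S
    induction S using Finset.induction_on with
    | empty =>
      rw [Finset.prod_empty, Finset.prod_empty, Ideal.one_eq_top]
      rfl
    | @insert i S hi ih =>
      rw [Finset.prod_insert hi, Finset.prod_insert hi, Scheme.IdealSheafData.ideal_mul, Pi.mul_apply,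
        Scheme.IdealSheafData.ideal_pow, Pi.pow_apply, ih]
  exact key Finset.univ

variable {k : Type u} [Field k] (f : X ⟶ Spec (CommRingCat.of k)) [Smooth f] [IsIntegral X]
  {L : X.Modules} {N : ℕ} {s : Coh.structureModule X ⟶ CohB1.tensorPow L N} {π : Y ⟶ X}

include f in
/-- Around each point: a frame, generators of the components, the equation and the normalisation. -/
theorem exists_local (hL : PicF.IsInvertible L) (hN : 0 < N) {r : ℕ} (D : Fin r → X.IdealSheafData)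
    (α : Fin r → ℕ) (hD : LogNCD.IsNCD D f)
    (hs : CycCov.IsZeroDiv (CohB1.tensorPow L N) s (CycCov.divIdeal D α))
    (R : CycCov.Root L N s π) (hR : CycCov.IsCover R) (x : X) (V : X.Opens) (hx : x ∈ V) :
    ∃ (U : X.affineOpens) (_ : x ∈ U.1) (_ : U.1 ≤ V) (e : Γ(L, U.1)) (he : InvX.IsFrame e)
      (h : Fin r → Γ(X, U.1)) (w : Γ(X, U.1)ˣ) (g : Γ(X, U.1)),
      SecTwist.val s U.1 = g • CycCov.lpow L U.1 (show L.val.obj (op U.1) from e) N ∧
      (∀ j, (D j).ideal U = Ideal.span {h j}) ∧ (∀ j, h j ≠ 0) ∧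
      (∀ j, x ∉ (D j).support → h j = 1) ∧
      (∀ j, IsRegularRing (Γ(X, U.1) ⧸ Ideal.span {h j})) ∧
      (∀ S : Finset (Fin r), IsReduced (Γ(X, U.1) ⧸ Ideal.span {∏ j ∈ S, h j})) ∧
      g = (w : Γ(X, U.1)) * ∏ j, h j ^ α j ∧
      (letI := (π.app U.1).hom.toAlgebra
       IsDatum (C := Γ(Y, π ⁻¹ᵁ U.1)) N g (R.t U _ (isGen_of_isFrame he))) := by
  obtain ⟨U, hxU, hUV, e, h, he, hh, hh0, hh1, hreg, hred⟩ := exists_decomp f D hD x V hx hL
  haveI : Nonempty U.1 := ⟨⟨x, hxU⟩⟩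
  obtain ⟨g, hg⟩ := exists_coord_eq s he
  have hspan := span_coord_eq s _ hs U he hg
  rw [divIdeal_ideal] at hspan
  simp only [hh, Ideal.span_singleton_pow, Ideal.prod_span_singleton] at hspan
  obtain ⟨w, hw⟩ := Ideal.span_singleton_eq_span_singleton.1 hspan
  exact ⟨U, hxU, hUV, e, he, h, w, g, hg, hh, hh0, hh1, hreg, hred, by rw [← hw, mul_comm],
    isDatum f R hR hN U he hg⟩

theorem prop_restrict_of_locally {P : MorphismProperty Scheme.{u}} [IsZariskiLocalAtTarget P]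
    (π : Y ⟶ X) (W : X.Opens) (h : ∀ x ∈ W, ∃ U : X.Opens, x ∈ U ∧ U ≤ W ∧ P (π ∣_ U)) : P (π ∣_ W) := by
  choose U hxU hUW hP using h
  have himg : ∀ y : (W : Scheme.{u}), W.ι ''ᵁ (W.ι ⁻¹ᵁ U y.1 y.2) = U y.1 y.2 := fun y => by
    rw [Scheme.Hom.image_preimage_eq_opensRange_inf, Scheme.Opens.opensRange_ι]
    exact inf_eq_right.mpr (hUW y.1 y.2)
  refine IsZariskiLocalAtTarget.of_iSup_eq_top (fun y : (W : Scheme.{u}) => W.ι ⁻¹ᵁ U y.1 y.2)
    (top_le_iff.1 fun y _ => Opens.mem_iSup.2 ⟨y, hxU y.1 y.2⟩) fun y => ?_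
  rw [P.arrow_mk_iso_iff (morphismRestrictRestrict π W _), himg]
  exact hP y.1 y.2

theorem etale_morphismRestrict (π : Y ⟶ X) [IsAffineHom π] (U : X.affineOpens) (h : (π.app U.1).hom.Etale) :
    Etale (π ∣_ U.1) := by
  haveI : IsAffine (U.1 : Scheme.{u}) := U.2
  haveI : IsAffine ((π ⁻¹ᵁ U.1) : Scheme.{u}) := U.2.preimage π
  rw [HasRingHomProperty.iff_of_isAffine (P := @Etale), Scheme.Hom.appTop, Scheme.Hom.app_eq_appLE,
    morphismRestrict_appLE]
  exact (π.appLE_congr _ U.1.ι_image_top (π ⁻¹ᵁ U.1).ι_image_top (fun f => f.hom.Etale)).2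
    (by rw [← Scheme.Hom.app_eq_appLE]; exact h)

theorem smooth_ι_comp {S : Scheme.{u}} [IsAffine S] (g : Y ⟶ S) {V : Y.Opens} (hV : IsAffineOpen V)
    (h : (g.appLE ⊤ V le_top).hom.Smooth) : Smooth (V.ι ≫ g) := by
  haveI : IsAffine (V : Scheme.{u}) := hV
  refine HasRingHomProperty.of_iSup_eq_top (P := @Smooth) (fun _ : PUnit.{1} => ⟨⊤, isAffineOpen_top _⟩) (by simp) fun _ => ?_
  rw [← Scheme.Hom.appLE_comp_appLE V.ι g ⊤ V ⊤ le_top V.ι_preimage_self.ge, CommRingCat.hom_comp]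
  exact (RingHom.Smooth.respectsIso).cancel_right_isIso _ _ |>.2 h

theorem smooth_of_locally {S : Scheme.{u}} (g : Y ⟶ S) (V : Y.Opens)
    (h : ∀ y ∈ V, ∃ V' : Y.Opens, y ∈ V' ∧ V' ≤ V ∧ Smooth (V'.ι ≫ g)) : Smooth (V.ι ≫ g) := by
  choose V' hy hle hsm using h
  refine IsZariskiLocalAtSource.of_iSup_eq_top (P := @Smooth) (fun y : (V : Scheme.{u}) => V.ι ⁻¹ᵁ V' y.1 y.2)
    (top_le_iff.1 fun y _ => Opens.mem_iSup.2 ⟨y, hy y.1 y.2⟩) fun y => ?_
  have hr : Set.range ((V.ι ⁻¹ᵁ V' y.1 y.2).ι ≫ V.ι) ⊆ Set.range (V' y.1 y.2).ι := by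
    rintro _ ⟨z, rfl⟩
    rw [Scheme.Opens.range_ι]
    exact z.2
  rw [← Category.assoc, ← IsOpenImmersion.lift_fac (V' y.1 y.2).ι _ hr, Category.assoc]
  haveI : IsOpenImmersion (IsOpenImmersion.lift (V' y.1 y.2).ι _ hr) := by
    haveI : IsOpenImmersion (IsOpenImmersion.lift (V' y.1 y.2).ι _ hr ≫ (V' y.1 y.2).ι) := by
      rw [IsOpenImmersion.lift_fac]; infer_instance
    exact IsOpenImmersion.of_comp _ (V' y.1 y.2).ι
  exact HasRingHomProperty.comp_of_isOpenImmersion (P := @Smooth) _ _ (hsm y.1 y.2)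

open Polynomial in
theorem etale_adjoinRoot {B : Type u} [CommRing B] {N : ℕ} (hN : 0 < N) (hNB : IsUnit (N : B)) {g : B}
    (hg : IsUnit g) : Algebra.Etale B (AdjoinRoot (Polynomial.X ^ N - Polynomial.C g : B[X])) := by
  obtain ⟨c, hc⟩ := (hNB.mul hg).exists_left_inv
  let P : StandardEtalePair B :=
    { f := Polynomial.X ^ N - Polynomial.C g
      monic_f := monic_X_pow_sub_C g hN.ne'
      g := 1
      cond := ⟨Polynomial.C c * Polynomial.X, -Polynomial.C ((N : B) * c), 1, by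
        rw [derivative_sub, derivative_C, sub_zero, derivative_X_pow, pow_one]
        have e : (Polynomial.X : B[X]) ^ (N - 1) * Polynomial.X = Polynomial.X ^ N := pow_sub_one_mul hN.ne' _
        have h1 : (Polynomial.C ((N : B) * c) : B[X]) * Polynomial.C g = 1 := by
          rw [← map_mul, show (N : B) * c * g = 1 by rw [← hc]; ring, map_one]
        simp only [map_mul, map_natCast] at h1 ⊢
        linear_combination ((N : B[X]) * Polynomial.C c) * e + h1⟩ }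
  have h1 : IsUnit (AdjoinRoot.mk P.f P.g) := by
    show IsUnit (AdjoinRoot.mk P.f 1)
    rw [map_one]
    exact isUnit_one
  let e : P.Ring ≃ₐ[B] AdjoinRoot (Polynomial.X ^ N - Polynomial.C g : B[X]) :=
    P.equivAwayAdjoinRoot.trans ((IsLocalization.atUnit _ _ _ h1).restrictScalars B).symm
  exact Algebra.Etale.of_equiv e

include f in
theorem etale_away_branch (hL : PicF.IsInvertible L) (hN : 0 < N) (hNk : (N : k) ≠ 0) {r : ℕ}
    (D : Fin r → X.IdealSheafData) (α : Fin r → ℕ) (hD : LogNCD.IsNCD D f)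
    (hs : CycCov.IsZeroDiv (CohB1.tensorPow L N) s (CycCov.divIdeal D α))
    (R : CycCov.Root L N s π) (hR : CycCov.IsCover R) (W : X.Opens)
    (hW : ∀ j : Fin r, 0 < α j → Disjoint (W : Set X) ((D j).support : Set X)) : Etale (π ∣_ W) := by
  refine prop_restrict_of_locally π W fun x hx => ?_
  obtain ⟨U, hxU, hUW, e, he, h, w, g, hg, hh, hh0, hh1, hreg, hred, hgw, hdat⟩ :=
    exists_local f hL hN D α hD hs R hR x W hx
  haveI : Nonempty U.1 := ⟨⟨x, hxU⟩⟩
  haveI := isIntegrallyClosed_Γ f U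
  haveI := hR.1
  refine ⟨U.1, hxU, hUW, etale_morphismRestrict π U ?_⟩
  letI := (π.app U.1).hom.toAlgebra
  have hgu : IsUnit g := by
    rw [hgw]
    refine w.isUnit.mul (IsUnit.prod_iff.2 fun j _ => ?_)
    rcases Nat.eq_zero_or_pos (α j) with hj | hj
    · rw [hj, pow_zero]; exact isUnit_one
    · rw [hh1 j fun hx' => Set.disjoint_left.1 (hW j hj) hx hx', one_pow]
      exact isUnit_one
  have hNB := isUnit_natCast f hNk U.1
  haveI := etale_adjoinRoot hN hNB hgu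
  exact Algebra.Etale.of_equiv (AlgEquiv.ofBijective (psi hdat)
    ⟨psi_injective hdat hN, psi_surjective_of_isUnit hdat hN hNB hgu⟩)

include f in
theorem smooth_one_branch [IsAlgClosed k] (hL : PicF.IsInvertible L) (hN : 0 < N) (hNk : (N : k) ≠ 0) {r : ℕ}
    (D : Fin r → X.IdealSheafData) (α : Fin r → ℕ) (hD : LogNCD.IsNCD D f)
    (hs : CycCov.IsZeroDiv (CohB1.tensorPow L N) s (CycCov.divIdeal D α))
    (R : CycCov.Root L N s π) (hR : CycCov.IsCover R) (W : X.Opens)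
    (hW : ∀ x ∈ W, ∀ j j' : Fin r, 0 < α j → 0 < α j' → x ∈ (D j).support → x ∈ (D j').support → j = j') :
    Smooth ((π ⁻¹ᵁ W).ι ≫ π ≫ f) := by
  classical
  refine smooth_of_locally (π ≫ f) (π ⁻¹ᵁ W) fun y hy => ?_
  obtain ⟨U, hxU, hUW, e, he, h, w, g, hg, hh, hh0, hh1, hreg, hred, hgw, hdat⟩ :=
    exists_local f hL hN D α hD hs R hR (π.base y) W hy
  haveI : Nonempty U.1 := ⟨⟨π.base y, hxU⟩⟩
  haveI := isIntegrallyClosed_Γ f U
  haveI := isRegularRing_Γ f U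
  haveI := hR.1
  refine ⟨π ⁻¹ᵁ U.1, hxU, π.preimage_mono hUW, smooth_ι_comp (π ≫ f) (U.2.preimage π) ?_⟩
  letI := (π.app U.1).hom.toAlgebra
  have hNB := isUnit_natCast f hNk U.1
  haveI hregC : IsRegularRing Γ(Y, π ⁻¹ᵁ U.1) := by
    by_cases hex : ∃ j, 0 < α j ∧ π.base y ∈ (D j).support
    · obtain ⟨j₀, hj₀, hj₀'⟩ := hex
      haveI := hreg j₀
      refine isRegularRing_one (u := w) (h := h j₀) (α := α j₀) hdat hN hNB ?_ (hh0 j₀)
      rw [hgw, Finset.prod_eq_single j₀]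
      · intro j _ hj
        rcases Nat.eq_zero_or_pos (α j) with hj' | hj'
        · rw [hj', pow_zero]
        · rw [hh1 j fun hx' => hj (hW _ hy j j₀ hj' hj₀ hx' hj₀'), one_pow]
      · simp
    · haveI : IsRegularRing (Γ(X, U.1) ⧸ Ideal.span {(1 : Γ(X, U.1))}) := by
        haveI : Subsingleton (Γ(X, U.1) ⧸ Ideal.span {(1 : Γ(X, U.1))}) :=
          Ideal.Quotient.subsingleton_iff.2 (Ideal.span_singleton_eq_top.2 isUnit_one)
        exact isRegularRing_of_subsingleton _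
      refine isRegularRing_one (u := w) (h := 1) (α := 0) hdat hN hNB ?_ one_ne_zero
      rw [hgw, pow_zero, Finset.prod_eq_one]
      intro j _
      rcases Nat.eq_zero_or_pos (α j) with hj' | hj'
      · rw [hj', pow_zero]
      · rw [hh1 j fun hx' => hex ⟨j, hj', hx'⟩, one_pow]
  let ρX : k →+* Γ(X, U.1) := (f.appLE ⊤ U.1 le_top).hom.comp (Scheme.ΓSpecIso (CommRingCat.of k)).inv.hom
  have hρX : ρX.FiniteType :=
    (HasRingHomProperty.appLE @LocallyOfFiniteType f inferInstance ⟨⊤, isAffineOpen_top _⟩ U le_top).comp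
      (RingHom.FiniteType.of_surjective _ (Scheme.ΓSpecIso (CommRingCat.of k)).symm.commRingCatIsoToRingEquiv.surjective)
  let ρ : k →+* Γ(Y, π ⁻¹ᵁ U.1) := (π.app U.1).hom.comp ρX
  have hρ : ρ.FiniteType := (IsFinite.finite_app π U.1 U.2).finiteType.comp hρX
  letI : Algebra k Γ(Y, π ⁻¹ᵁ U.1) := ρ.toAlgebra
  haveI : Algebra.FiniteType k Γ(Y, π ⁻¹ᵁ U.1) := hρ
  have hsm : ρ.Smooth := SmoothVarLib.smooth_of_regular k Γ(Y, π ⁻¹ᵁ U.1)
  have hcomp : ((π ≫ f).appLE ⊤ (π ⁻¹ᵁ U.1) le_top).hom =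
      ρ.comp (Scheme.ΓSpecIso (CommRingCat.of k)).hom.hom := by
    rw [← Scheme.Hom.appLE_comp_appLE π f ⊤ U.1 (π ⁻¹ᵁ U.1) le_top le_rfl, CommRingCat.hom_comp,
      ← Scheme.Hom.app_eq_appLE]
    refine RingHom.ext fun a => ?_
    show _ = (π.app U.1).hom ((f.appLE ⊤ U.1 le_top).hom ((Scheme.ΓSpecIso (CommRingCat.of k)).inv ((Scheme.ΓSpecIso (CommRingCat.of k)).hom a)))
    rw [Iso.hom_inv_id_apply]
    rfl
  rw [hcomp]
  exact RingHom.Smooth.respectsIso.2 ρ (Scheme.ΓSpecIso (CommRingCat.of k)).commRingCatIsoToRingEquiv hsm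

end Groth.Agent.CycCov7
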