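import Groth.Agent.CycCov7.Local
import Groth.Agent.CycCov7.Inverse
import Groth.Agent.OmegaLib.IdealMod
import Groth.Agent.H23.Frame
import Groth.Agent.InvX.GenLocusPull

/-!
The eigen-decomposition of the direct image of the normalised cyclic cover.
-/

universe u

open CategoryTheory CategoryTheory.Limits AlgebraicGeometry TopologicalSpace Opposite

namespace Groth.Agent.CycCov7

open Groth.Agent.AModX

variable {X Y : Scheme.{u}}

theorem exists_idealFrame [IsIntegral X] (I : X.IdealSheafData) (U : X.affineOpens) [Nonempty U.1]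
    {a : Γ(X, U.1)} (ha : a ≠ 0) (hI : I.ideal U = Ideal.span {a}) :
    ∃ k : Γ(ClSub.idealMod I, U.1), InvX.IsFrame k ∧ OmegaSh.idealSect I U.1 k = a := by
  obtain ⟨k, hk⟩ := OmegaLib.exists_of_mem I U a (hI ▸ Ideal.mem_span_singleton_self a)
  refine ⟨k, fun V hV => ?_, hk⟩
  have hinj : ∀ (W : X.Opens) (hW : W ≤ U.1) (r r' : Γ(X, W)),
      r • res _ hW k = r' • res _ hW k → r = r' := by
    intro W hW r r' hr
    have h1 := congrArg (OmegaSh.idealSect I W) hr
    have h2 : OmegaSh.idealSect I W (res _ hW k) = resR hW a := by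
      rw [← hk]
      exact OmegaLib.idealSect_map I hW k
    rw [OmegaLib.idealSect_smul, OmegaLib.idealSect_smul, h2] at h1
    rcases isEmpty_or_nonempty W with hempty | hne
    · refine TopCat.Presheaf.section_ext X.sheaf W r r' fun y hy => (hempty.false ⟨y, hy⟩).elim
    · exact mul_right_cancel₀ (fun h0 => ha ((@map_injective_of_isIntegral X inferInstance _ _ (homOfLE hW) hne)
        (a₁ := a) (a₂ := 0) (h0.trans (map_zero _).symm))) h1
  refine ⟨fun r r' hr => hinj V hV r r' hr, fun z => ?_⟩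
  have hloc : ∀ p : V, ∃ (W : X.Opens) (hW : W ≤ V) (_ : p.1 ∈ W) (r : Γ(X, W)),
      res _ hW z = r • res _ (hW.trans hV) k := fun p => by
    obtain ⟨W, hW, hpW, hWV⟩ := exists_isAffineOpen_mem_and_subset p.2
    have hmem := OmegaLib.idealSect_mem I ⟨W, hW⟩ (res _ hWV z)
    rw [← I.map_ideal (U := ⟨W, hW⟩) (V := U) (show W ≤ U.1 from le_trans hWV hV), hI, Ideal.map_span,
      Set.image_singleton, Ideal.mem_span_singleton'] at hmem
    obtain ⟨r, hr⟩ := hmem
    refine ⟨W, hWV, hpW, r, OmegaLib.idealSect_injective I W ?_⟩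
    rw [OmegaLib.idealSect_smul, show OmegaSh.idealSect I W (res _ (le_trans hWV hV) k) = _ from
      OmegaLib.idealSect_map I _ k, hk]
    exact hr.symm
  choose W hW hpW r hr using hloc
  obtain ⟨R, hR, -⟩ := TopCat.Sheaf.existsUnique_gluing' X.sheaf W V (fun p => homOfLE (hW p))
    (fun p hp => Opens.mem_iSup.2 ⟨⟨p, hp⟩, hpW ⟨p, hp⟩⟩) r fun p q => by
      apply hinj _ (inf_le_left.trans ((hW p).trans hV))
      have h1 := congrArg (res (ClSub.idealMod I) (inf_le_left : W p ⊓ W q ≤ W p)) (hr p)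
      have h2 := congrArg (res (ClSub.idealMod I) (inf_le_right : W p ⊓ W q ≤ W q)) (hr q)
      rw [res_res, res_smul, res_res] at h1 h2
      exact h1.symm.trans h2
  refine ⟨R, eq_of_locally _ _ fun p hp => ⟨W ⟨p, hp⟩, hW _, hpW _, ?_⟩⟩
  rw [res_smul, res_res, hr]
  exact congrArg (· • _) (hR ⟨p, hp⟩)

theorem isIso_of_bijective_basis {M N : X.Modules} (ψ : M ⟶ N)
    (h : ∀ (x : X) (V : X.Opens), x ∈ V → ∃ U : X.Opens, x ∈ U ∧ U ≤ V ∧ Function.Bijective (ψ.app U)) :
    IsIso ψ := by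
  have hinj : ∀ V : X.Opens, Function.Injective (ψ.app V) := fun V => by
    rw [injective_iff_map_eq_zero]
    intro z hz
    refine eq_of_locally _ _ fun p hp => ?_
    obtain ⟨U, hpU, hUV, hb⟩ := h p V hp
    refine ⟨U, hUV, hpU, hb.1 ?_⟩
    rw [app_res, app_res, hz, map_zero, map_zero, map_zero]
  refine Scheme.Modules.Hom.isIso_iff_isIso_app.2 fun V =>
    (ConcreteCategory.isIso_iff_bijective _).2 ⟨hinj V, fun t => ?_⟩
  have hU := fun p : V => h p.1 V p.2
  choose U hpU hUV hb using hU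
  choose z hz using fun p : V => (hb p).2 (res N (hUV p) t)
  obtain ⟨w, hw, -⟩ := existsUnique_glue (M := M) (V := V) U hUV (fun p hp => ⟨⟨p, hp⟩, hpU ⟨p, hp⟩⟩) z
    fun p q => hinj _ (by rw [app_res, app_res, hz, hz, res_res, res_res])
  refine ⟨w, eq_of_locally _ _ fun p hp => ⟨U ⟨p, hp⟩, hUV _, hpU _, ?_⟩⟩
  rw [← app_res, hw, hz]

theorem lpow_smul {L : X.Modules} (U : X.Opens) (e : Γ(L, U)) (v : Γ(X, U)) : ∀ n : ℕ,
    (show Γ(CohB1.tensorPow L n, U) from CycCov.lpow L U (show L.val.obj (op U) from v • e) n) =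
      v ^ n • (show Γ(CohB1.tensorPow L n, U) from CycCov.lpow L U (show L.val.obj (op U) from e) n)
  | 0 => by rw [pow_zero, one_smul]; rfl
  | n + 1 => by
    show InvX.tmul (show Γ(CohB1.tensorPow L n, U) from CycCov.lpow L U (show L.val.obj (op U) from v • e) n) (v • e) = _
    rw [lpow_smul U e v n, InvX.tmul_smul_left, InvX.tmul_smul_right, ← mul_smul, ← pow_succ]
    rfl

variable (L : X.Modules) (N i : ℕ) {r : ℕ} (D : Fin r → X.IdealSheafData) (α : Fin r → ℕ) {M : X.Modules}
  (φ : CohB1.tensorMod (CycCov.intPart L D α N i) M ≅ Coh.structureModule X)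

/-- The frame of the integral part in a frame of `L` and a frame of the ideal. -/
noncomputable def aFrame {U : X.Opens} (e : Γ(L, U)) (k : Γ(ClSub.idealMod (CycCov.floorIdeal D α N i), U)) :
    Γ(CycCov.intPart L D α N i, U) :=
  InvX.tmul (show Γ(CohB1.tensorPow L i, U) from CycCov.lpow L U (show L.val.obj (op U) from e) i) k

theorem res_aFrame {U W : X.Opens} (h : W ≤ U) (e : Γ(L, U)) (k : Γ(ClSub.idealMod (CycCov.floorIdeal D α N i), U)) :
    res (CycCov.intPart L D α N i) h (aFrame L N i D α e k) = aFrame L N i D α (res L h e) (res _ h k) := by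
  refine (InvX.res_tmul h _ k).trans ?_
  exact congrArg (fun z => InvX.tmul z (res _ h k)) (res_lpow h (show L.val.obj (op U) from e) i)

theorem aFrame_smul {U : X.Opens} (e : Γ(L, U)) (k : Γ(ClSub.idealMod (CycCov.floorIdeal D α N i), U))
    (v d : Γ(X, U)) :
    aFrame L N i D α (v • e) (d • k) = (v ^ i * d) • aFrame L N i D α e k := by
  unfold aFrame
  rw [lpow_smul U e v i, InvX.tmul_smul_left, InvX.tmul_smul_right, ← mul_smul]
  rfl

variable {N} {π : Y ⟶ X} {s : Coh.structureModule X ⟶ CohB1.tensorPow L N} (R : CycCov.Root L N s π)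

/-- Local data: a frame of `L`, of the ideal, the dual frame of `M` and the generator upstairs. -/
structure Chart where
  /-- the open -/
  U : X.affineOpens
  /-- the frame -/
  e : Γ(L, U.1)
  he : InvX.IsFrame e
  /-- the ideal frame -/
  k : Γ(ClSub.idealMod (CycCov.floorIdeal D α N i), U.1)
  hk : InvX.IsFrame k
  /-- the dual frame -/
  m : Γ(M, U.1)
  hm : InvX.IsFrame m
  hφ : φ.hom.app U.1 (InvX.tmul (aFrame L N i D α e k) m) = (show Γ(Coh.structureModule X, U.1) from (1 : Γ(X, U.1)))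
  /-- the generator -/
  n : Γ(Y, π ⁻¹ᵁ U.1)
  hn : π.app U.1 (OmegaSh.idealSect _ U.1 k) * n = R.t U _ (isGen_of_isFrame he) ^ i
  hH : OmegaSh.idealSect _ U.1 k ≠ 0

variable {L i D α} {φ} {R} {k₀ : Type u} [Field k₀]

theorem app_res_π {V W : X.Opens} (h : W ≤ V) (a : Γ(X, V)) :
    π.app W (resR h a) = Y.presheaf.map (homOfLE (π.preimage_mono h)).op (π.app V a) :=
  ConcreteCategory.congr_hom (π.naturality (homOfLE h).op) a

variable (f : X ⟶ Spec (CommRingCat.of k₀)) [Smooth f] [IsIntegral X]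

include f in
/-- The generators transform as the dual frames do. -/
theorem cocycle (hR : CycCov.IsCover R) (hN : 0 < N) (a b : Chart L i D α φ R) (W : X.Opens) (ha : W ≤ a.U.1)
    (hb : W ≤ b.U.1) (g : Γ(X, W)) (hg : res M hb b.m = g • res M ha a.m) :
    res ((Scheme.Modules.pushforward π).obj (Coh.structureModule Y)) hb
        (show Γ((Scheme.Modules.pushforward π).obj (Coh.structureModule Y), b.U.1) from b.n) =
      g • res ((Scheme.Modules.pushforward π).obj (Coh.structureModule Y)) ha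
        (show Γ((Scheme.Modules.pushforward π).obj (Coh.structureModule Y), a.U.1) from a.n) := by
  refine eq_of_locally _ _ fun p hp => ?_
  obtain ⟨W', hW', hpW', hW'W⟩ := exists_isAffineOpen_mem_and_subset hp
  have h1 : W' ≤ a.U.1 := (show W' ≤ W from hW'W).trans ha
  have h2 : W' ≤ b.U.1 := (show W' ≤ W from hW'W).trans hb
  refine ⟨W', hW'W, hpW', ?_⟩
  rw [res_smul, res_res, res_res]
  haveI : Nonempty W' := ⟨⟨p, hpW'⟩⟩
  obtain ⟨ga, hga⟩ := exists_coord_eq s a.he
  have hdat := isDatum f R hR hN ⟨W', hW'⟩ (a.he.res h1) (val_res h1 _ hga)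
  letI := (π.app W').hom.toAlgebra
  -- comparison of the frames on W'
  obtain ⟨v, hv⟩ := (a.he.res h1).exists_coord le_rfl (res L h2 b.e)
  rw [res_self] at hv
  obtain ⟨d, hd⟩ := (a.hk.res h1).exists_coord le_rfl (res _ h2 b.k)
  rw [res_self] at hd
  let Ha := resR h1 (OmegaSh.idealSect _ a.U.1 a.k)
  let Hb := resR h2 (OmegaSh.idealSect _ b.U.1 b.k)
  have hHb : Hb = d * Ha := by
    have := congrArg (OmegaSh.idealSect (CycCov.floorIdeal D α N i) W') hd
    rw [OmegaLib.idealSect_smul] at this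
    refine Eq.trans (OmegaLib.idealSect_map _ h2 b.k).symm (this.trans ?_)
    exact congrArg (d * ·) (OmegaLib.idealSect_map _ h1 a.k)
  have hg' : res M h2 b.m = resR (show W' ≤ W from hW'W) g • res M h1 a.m := by
    have := congrArg (res M (show W' ≤ W from hW'W)) hg
    rwa [res_smul, res_res, res_res] at this
  have hone : ∀ (U : X.Opens) (h : W' ≤ U), res (Coh.structureModule X) h
      (show Γ(Coh.structureModule X, U) from (1 : Γ(X, U))) =
      (show Γ(Coh.structureModule X, W') from (1 : Γ(X, W'))) := fun U h => map_one (resR h)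
  have hunit : v ^ i * d * resR (show W' ≤ W from hW'W) g = 1 := by
    have h3 := congrArg (res (Coh.structureModule X) h2) b.hφ
    rw [← app_res, InvX.res_tmul, res_aFrame, hv, hd, aFrame_smul, hg', InvX.tmul_smul_left,
      InvX.tmul_smul_right, ← mul_smul, hone, ← res_aFrame L N i D α h1, ← InvX.res_tmul,
      Scheme.Modules.Hom.app_smul, app_res, a.hφ, hone] at h3
    exact (mul_one _).symm.trans h3
  let na : Γ(Y, π ⁻¹ᵁ W') := Y.presheaf.map (homOfLE (π.preimage_mono h1)).op a.n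
  let nb : Γ(Y, π ⁻¹ᵁ W') := Y.presheaf.map (homOfLE (π.preimage_mono h2)).op b.n
  have hgenb : CycCov.IsGen L W' (v • (show L.val.obj (op W') from res L h1 a.e)) :=
    (show (show L.val.obj (op W') from res L h2 b.e) = _ from hv) ▸ isGen_of_isFrame (b.he.res h2)
  let ta := R.t ⟨W', hW'⟩ _ (isGen_of_isFrame (a.he.res h1))
  let tb := R.t ⟨W', hW'⟩ _ (isGen_of_isFrame (b.he.res h2))
  have ht : ta = tb * π.app W' v := by
    have h4 := R.t_smul ⟨W', hW'⟩ _ (isGen_of_isFrame (a.he.res h1)) v hgenb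
    refine h4.symm.trans ?_
    congr 1
    have e : (show L.val.obj (op W') from res L h2 b.e) = v • (show L.val.obj (op W') from res L h1 a.e) := hv
    simp only [tb]
    congr 1
    exact e.symm
  have hna : π.app W' Ha * na = ta ^ i := by
    have := congrArg (Y.presheaf.map (homOfLE (π.preimage_mono h1)).op) a.hn
    rw [map_mul, map_pow, R.t_res a.U ⟨W', hW'⟩ h1 _ _ (isGen_of_isFrame (a.he.res h1))] at this
    rw [app_res_π]
    exact this
  have hnb : π.app W' Hb * nb = tb ^ i := by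
    have := congrArg (Y.presheaf.map (homOfLE (π.preimage_mono h2)).op) b.hn
    rw [map_mul, map_pow, R.t_res b.U ⟨W', hW'⟩ h2 _ _ (isGen_of_isFrame (b.he.res h2))] at this
    rw [app_res_π]
    exact this
  have hHa : Ha ≠ 0 := fun h0 => a.hH
    ((@map_injective_of_isIntegral X inferInstance _ _ (homOfLE h1) inferInstance)
      (a₁ := OmegaSh.idealSect (CycCov.floorIdeal D α N i) a.U.1 a.k) (a₂ := 0) (h0.trans (map_zero _).symm))
  have key : na = π.app W' (v ^ i * d) * nb := by
    refine sub_eq_zero.1 (hdat.torsion Ha hHa _ ?_)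
    show π.app W' Ha * (na - π.app W' (v ^ i * d) * nb) = 0
    rw [mul_sub, sub_eq_zero, hna, ht, mul_pow, ← hnb, hHb]
    simp only [map_mul, map_pow]
    ring
  show nb = π.app W' (resR (show W' ≤ W from hW'W) g) * na
  rw [key, ← mul_assoc, ← map_mul, mul_comm (resR _ g), hunit, map_one, one_mul]

omit [Smooth f] in
theorem floor_ideal_eq (U : X.affineOpens) (h : Fin r → Γ(X, U.1))
    (hh : ∀ j, (D j).ideal U = Ideal.span {h j}) :
    (CycCov.floorIdeal D α N i).ideal U = Ideal.span {Hd h α N i} := by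
  rw [CycCov.floorIdeal, divIdeal_ideal]
  simp only [hh, Ideal.span_singleton_pow, Ideal.prod_span_singleton]
  rfl

include f in
theorem exists_coproduct (hL : PicF.IsInvertible L) (hN : 0 < N) (hNk : (N : k₀) ≠ 0) (hD : LogNCD.IsNCD D f)
    (hs : CycCov.IsZeroDiv (CohB1.tensorPow L N) s (CycCov.divIdeal D α)) (hR : CycCov.IsCover R)
    (M : Fin N → X.Modules) (hM : ∀ i : Fin N, ClSub.IsInverseOf (CycCov.intPart L D α N i) (M i)) :
    ∃ c : ∀ i : Fin N, M i ⟶ (Scheme.Modules.pushforward π).obj (Coh.structureModule Y),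
      Nonempty (IsColimit (Cofan.mk ((Scheme.Modules.pushforward π).obj (Coh.structureModule Y)) c)) := by
  classical
  let φ := fun i : Fin N => (hM i).some
  have hMinv : ∀ i, PicF.IsInvertible (M i) := fun i => isInvertible_right _ _ (φ i)
  -- charts for all indices on one open
  have hex : ∀ (x : X) (V : X.Opens), x ∈ V → ∃ (U : X.affineOpens), x ∈ U.1 ∧ U.1 ≤ V ∧
      ∃ a : ∀ i : Fin N, Chart L i D α (φ i) R, ∃ (hU : ∀ i, (a i).U.1 = U.1),
        (∀ y : Fin N → Γ(X, U.1), (∑ i, π.app U.1 (y i) *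
          Y.presheaf.map (homOfLE (π.preimage_mono (hU i).ge)).op (a i).n = 0) → y = 0) ∧
        ∀ z : Γ(Y, π ⁻¹ᵁ U.1), ∃ y : Fin N → Γ(X, U.1), z = ∑ i, π.app U.1 (y i) *
          Y.presheaf.map (homOfLE (π.preimage_mono (hU i).ge)).op (a i).n := by
    intro x V hx
    choose O hxO m hm using fun i => InvX.exists_frame (hMinv i) x
    let V' : X.Opens := V ⊓ ⟨⋂ i, (O i : Set X), isOpen_iInter_of_finite fun i => (O i).2⟩
    obtain ⟨U, hxU, hUV, e, he, h, w, g, hg, hh, hh0, hh1, hreg, hred, hgw, hdat⟩ :=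
      exists_local f hL hN D α hD hs R hR x V' ⟨hx, Set.mem_iInter.2 hxO⟩
    haveI : Nonempty U.1 := ⟨⟨x, hxU⟩⟩
    haveI := isIntegrallyClosed_Γ f U
    letI := (π.app U.1).hom.toAlgebra
    have hNB := isUnit_natCast f hNk U.1
    have hUO : ∀ i, U.1 ≤ O i := fun i z hz => Set.mem_iInter.1 (hUV hz).2 i
    have hch : ∀ i : Fin N, ∃ a : Chart L i D α (φ i) R, ∃ (hU : a.U = U),
        a.n = Y.presheaf.map (homOfLE (π.preimage_mono (le_of_eq (congrArg Subtype.val hU)))).op
          (gen hdat hN hgw (i : ℕ)) := fun i => by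
      obtain ⟨k, hk, hk'⟩ := exists_idealFrame (CycCov.floorIdeal D α N i) U
        (Hd_ne_zero h α hh0 (i : ℕ)) (floor_ideal_eq (i := (i : ℕ)) U h hh)
      have hm' := (hm i).res (hUO i)
      have hc : InvX.IsFrame ((φ i).hom.app U.1 (InvX.tmul (aFrame L N (i : ℕ) D α e k) (res (M i) (hUO i) (m i)))) :=
        InvX.IsFrame.map_iso (φ i) (InvX.isFrame_tmul (InvX.isFrame_tmul (isFrame_lpow he (i : ℕ)) hk) hm')
      obtain ⟨ρ, hρ⟩ := hc.exists_coord le_rfl (show Γ(Coh.structureModule X, U.1) from (1 : Γ(X, U.1)))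
      rw [res_self] at hρ
      have hρu : IsUnit ρ := IsUnit.of_mul_eq_one _ hρ.symm
      refine ⟨{ U := U, e := e, he := he, k := k, hk := hk, m := ρ • res (M i) (hUO i) (m i),
                hm := hm'.isUnit_smul hρu, hφ := ?_, n := gen hdat hN hgw (i : ℕ), hn := ?_, hH := ?_ },
        rfl, ?_⟩
      · rw [InvX.tmul_smul_right, Scheme.Modules.Hom.app_smul]
        exact hρ.symm
      · rw [hk']
        exact (Algebra.smul_def _ _).symm.trans (Hd_smul_gen hdat hN hgw (i : ℕ))
      · rw [hk']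
        exact Hd_ne_zero h α hh0 _
      · exact (ConcreteCategory.congr_hom (Y.presheaf.map_id (op (π ⁻¹ᵁ U.1))) _).symm
    choose a hU hn using hch
    refine ⟨U, hxU, hUV.trans inf_le_left, a, fun i => congrArg Subtype.val (hU i), ?_⟩
    have hn' : ∀ i, Y.presheaf.map (homOfLE (π.preimage_mono (congrArg Subtype.val (hU i)).ge)).op (a i).n =
        gen hdat hN hgw (i : ℕ) := fun i => by
      rw [hn i, ← CommRingCat.comp_apply, ← Functor.map_comp]
      exact ConcreteCategory.congr_hom (Y.presheaf.map_id (op (π ⁻¹ᵁ U.1))) _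
    simp only [hn']
    refine ⟨fun y hy => sum_gen_eq_zero hdat hN hgw hh0 ?_, fun z => ?_⟩
    · simpa [Algebra.smul_def, RingHom.algebraMap_toAlgebra] using hy
    · obtain ⟨y, hy⟩ := exists_sum_gen hdat hN hNB hgw hh0 hred z
      exact ⟨y, by simpa [Algebra.smul_def, RingHom.algebraMap_toAlgebra] using hy⟩
  let P := (Scheme.Modules.pushforward π).obj (Coh.structureModule Y)
  let c : ∀ i : Fin N, M i ⟶ P := fun i =>
    InvX.ofFrames (M := M i) (N := P) (U := fun a : Chart L i D α (φ i) R => a.U.1) (e := fun a => a.m)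
      (n := fun a => (show Γ(P, a.U.1) from a.n))
      (fun x => by
        obtain ⟨U, hxU, -, a, hU, -⟩ := hex x ⊤ trivial
        exact ⟨a i, (hU i).ge hxU⟩)
      (fun a => a.hm) (fun a b W ha hb g hg => cocycle f hR hN a b W ha hb g hg)
  let ψ : (∐ M) ⟶ P := Sigma.desc c
  let pr : ∀ i, (∐ M) ⟶ M i := fun i =>
    Sigma.desc fun j => if h : j = i then eqToHom (congrArg M h) else 0
  have total : ∑ i, pr i ≫ Sigma.ι M i = 𝟙 (∐ M) := by
    refine Sigma.hom_ext _ _ fun j => ?_
    rw [Preadditive.comp_sum, Category.comp_id, Finset.sum_eq_single j]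
    · rw [Sigma.ι_desc_assoc, dif_pos rfl]; simp
    · intro i _ hi
      rw [Sigma.ι_desc_assoc, dif_neg fun h => hi h.symm, Limits.zero_comp]
    · intro h; exact absurd (Finset.mem_univ j) h
  haveI : IsIso ψ := isIso_of_bijective_basis ψ fun x V hx => by
    obtain ⟨U, hxU, hUV, a, hU, hinj, hsurj⟩ := hex x V hx
    refine ⟨U.1, hxU, hUV, ?_⟩
    let mU : ∀ i, Γ(M i, U.1) := fun i => res (M i) (hU i).ge (a i).m
    let nU : ∀ i, Γ(Y, π ⁻¹ᵁ U.1) := fun i => Y.presheaf.map (homOfLE (π.preimage_mono (hU i).ge)).op (a i).n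
    have hψι : ∀ i (y : Γ(X, U.1)), ψ.app U.1 ((Sigma.ι M i).app U.1 (y • mU i)) =
        (show Γ(P, U.1) from π.app U.1 y * nU i) := fun i y => by
      show (Sigma.ι M i ≫ ψ).app U.1 (y • mU i) = _
      rw [Sigma.ι_desc, Scheme.Modules.Hom.app_smul]
      refine (congrArg (y • ·) (InvX.ofFrames_app_res _ _ _ (a i) (hU i).ge)).trans ?_
      rfl
    have hdecomp : ∀ z : Γ(∐ M, U.1), ∃ y : Fin N → Γ(X, U.1),
        z = ∑ i, (Sigma.ι M i).app U.1 (y i • mU i) := fun z => by
      have h0 : (∑ i, pr i ≫ Sigma.ι M i).app U.1 z = z := by rw [total]; rfl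
      rw [H23.Frame.app_sum] at h0
      choose y hy using fun i => ((a i).hm).exists_coord (hU i).ge ((pr i).app U.1 z)
      refine ⟨y, h0.symm.trans (Finset.sum_congr rfl fun i _ => ?_)⟩
      exact congrArg ((Sigma.ι M i).app U.1) (hy i)
    have hval : ∀ y : Fin N → Γ(X, U.1), ψ.app U.1 (∑ i, (Sigma.ι M i).app U.1 (y i • mU i)) =
        (show Γ(P, U.1) from ∑ i, π.app U.1 (y i) * nU i) := fun y => by
      rw [map_sum]
      exact Finset.sum_congr rfl fun i _ => hψι i (y i)
    refine ⟨(injective_iff_map_eq_zero _).2 fun z hz => ?_, fun t => ?_⟩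
    · obtain ⟨y, rfl⟩ := hdecomp z
      rw [hval] at hz
      rw [hinj y hz]
      simp
    · obtain ⟨y, hy⟩ := hsurj (show Γ(Y, π ⁻¹ᵁ U.1) from t)
      exact ⟨_, (hval y).trans hy.symm⟩
  exact ⟨c, ⟨(coproductIsCoproduct M).ofIsoColimit (Cofan.ext (asIso ψ) fun i => Sigma.ι_desc _ _)⟩⟩

end Groth.Agent.CycCov7
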